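import Cfsg.Agent.H525.E8L.Iface
import Cfsg.Agent.H943.TorDim
import Cfsg.Agent.H942.CB.E8Tor

/-!
# Multiplicities of the eigenvalues of an element with given torus data (helper525, S5921)
-/

set_option autoImplicit false
set_option linter.unusedSectionVars false
set_option maxRecDepth 100000

namespace Cfsg.Agent.H525.E8L

open Matrix
open Cfsg Cfsg.Lie Cfsg.Lie.ChevalleyDatum
open Cfsg.Agent.ChevalleyStructure Cfsg.Agent.ChevalleyStructure.Elts Cfsg.Agent.ChevalleyStructure.CoxeterGeom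
  Cfsg.Agent.ChevalleyStructure.CoxeterGeomTypes Cfsg.Agent.ChevalleyStructure.NPerm
  Cfsg.Agent.ChevalleyStructure.RootVec Cfsg.Agent.ChevalleyStructure.RootVecTab
open Cfsg.Agent.Tits.Roots Cfsg.Agent.Nodes Cfsg.Agent.Nodes.Reps Cfsg.Agent.Nodes.BNOf
  Cfsg.Agent.Nodes.RGDChev
open Cfsg.Agent.KFacts.RgdChevCoord Cfsg.Agent.GpExc.Field Cfsg.Agent.BpExc.TowChev Cfsg.Agent.H129.TorusChar
open Cfsg.Agent.H942.E8Tab Cfsg.Agent.H942.E8Alc Cfsg.Agent.H944.Tab Cfsg.Agent.H944.RootVals
open Cfsg.Agent.H943.RepAdd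

section

variable {ζ : KK} {N : ℕ} [NeZero N]

theorem zpow_val (hζ : IsPrimitiveRoot ζ N) (m : ℤ) : ζ ^ m = ζ ^ (m : ZMod N).val := by
  have h0 : ζ ≠ 0 := hζ.ne_zero (NeZero.ne N)
  rw [← zpow_natCast, ZMod.val_intCast]
  have h1 : ζ ^ (N : ℤ) = 1 := by rw [zpow_natCast]; exact hζ.pow_eq_one
  conv_lhs => rw [← Int.emod_add_mul_ediv m N]
  rw [zpow_add₀ h0, _root_.zpow_mul, h1, _root_.one_zpow, mul_one]

theorem val_inj (hζ : IsPrimitiveRoot ζ N) {a b : ZMod N} : ζ ^ a.val = ζ ^ b.val ↔ a = b := by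
  constructor
  · intro h
    exact ZMod.val_injective N (hζ.pow_inj (ZMod.val_lt a) (ZMod.val_lt b) h)
  · rintro rfl
    rfl

/-- the values of the roots -/
theorem cX_vec_val (hζ : IsPrimitiveRoot ζ N) {t : GK} (ht : t ∈ TT chevE8 KK) {v : Fin 8 → ZMod N}
    (hv : ∀ i, cX e8T t (sr i) = ζ ^ (v i).val) (s : Fin chevE8.nroots) :
    cX e8T t (vec chevE8 8 s) = ζ ^ (∑ i, (vec chevE8 8 s i : ZMod N) * v i).val := by
  have h0 : ζ ≠ 0 := hζ.ne_zero (NeZero.ne N)
  have h1 := (isMC_cX e8T ht).eq_prod (vec chevE8 8 s)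
  rw [h1]
  have h2 : ∏ i, cX e8T t (sr i) ^ (vec chevE8 8 s i) = ζ ^ (∑ i, vec chevE8 8 s i * ((v i).val : ℤ)) := by
    have h3 : ∀ S : Finset (Fin 8), ∏ i ∈ S, cX e8T t (sr i) ^ (vec chevE8 8 s i) =
        ζ ^ (∑ i ∈ S, vec chevE8 8 s i * ((v i).val : ℤ)) := by
      intro S
      induction S using Finset.induction_on with
      | empty => simp
      | insert b S hb ih =>
        rw [Finset.prod_insert hb, Finset.sum_insert hb, zpow_add₀ h0, ih, hv b, mul_comm (vec chevE8 8 s b), _root_.zpow_mul,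
          zpow_natCast]
    exact h3 _
  rw [h2, zpow_val hζ]
  congr 2
  push_cast
  exact Finset.sum_congr rfl fun i _ => by rw [ZMod.natCast_zmod_val]

theorem univ_elim' {m : ℕ} {β K : Type*} [Fintype β] (c : K) (f : β → K) :
    (Finset.univ : Finset (Fin m ⊕ β)).val.map (Sum.elim (fun _ => c) f) =
      Multiset.replicate m c + (Finset.univ : Finset β).val.map f := by
  rw [← Finset.univ_disjSum_univ, Finset.val_disjSum, Multiset.disjSum, Multiset.map_add, Multiset.map_map,
    Multiset.map_map]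
  congr 1
  have : (Sum.elim (fun _ : Fin m => c) f ∘ Sum.inl) = fun _ => c := rfl
  rw [this, Multiset.map_const']
  congr 1
  exact Finset.card_fin m

/-- **the dimensions of the eigenspaces** -/
theorem TorZ.dims (hζ : IsPrimitiveRoot ζ N) {x : G8} {v : Fin 8 → ZMod N} (h : TorZ ζ x N v) (j : ZMod N) :
    Module.finrank KK (LinearMap.ker (Matrix.toLin' ((((x : G8) : GL chevE8.Idx (ZMod 3)) :
      Matrix chevE8.Idx chevE8.Idx (ZMod 3)).map (algebraMap (ZMod 3) KK)) -
        (ζ ^ j.val) • (1 : Module.End KK (chevE8.Idx → KK)))) =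
      (if j = 0 then 8 else 0) + (ms chevE8 8 v).count j := by
  classical
  obtain ⟨z, t, hzt, ht, hv⟩ := h
  have h1 : (((z⁻¹ : GK) : GL chevE8.Idx KK) : Matrix chevE8.Idx chevE8.Idx KK) *
      (((x : G8) : GL chevE8.Idx (ZMod 3)) : Matrix chevE8.Idx chevE8.Idx (ZMod 3)).map (algebraMap (ZMod 3) KK) *
      (((((z⁻¹ : GK) : GL chevE8.Idx KK))⁻¹ : GL chevE8.Idx KK) : Matrix chevE8.Idx chevE8.Idx KK) =
      Matrix.diagonal (Sum.elim (fun _ => (1 : KK)) (fun s : Fin chevE8.nroots => cX e8T t (vec chevE8 8 s))) := by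
    rw [← Cfsg.Agent.H942.CB.TT_diag' e8T ht, ← hzt, Subgroup.coe_mul, Subgroup.coe_mul, Units.val_mul, Units.val_mul,
      coe_emb, coe_glMap]
    congr 1
  rw [Cfsg.Agent.H943.TorDim.finrank_ker_conj_diag _ _ h1]
  have h2 : (Finset.univ.filter fun i : chevE8.Idx => Sum.elim (fun _ => (1 : KK))
      (fun s : Fin chevE8.nroots => cX e8T t (vec chevE8 8 s)) i = ζ ^ j.val) =
      (Finset.univ.filter fun i : chevE8.Idx => Sum.elim (fun _ => (0 : ZMod N))
      (fun s : Fin chevE8.nroots => ∑ i, (vec chevE8 8 s i : ZMod N) * v i) i = j) := by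
    refine Finset.filter_congr fun i _ => ?_
    rcases i with i | i
    · simp only [Sum.elim_inl]
      rw [← val_inj hζ (a := 0) (b := j), ZMod.val_zero, pow_zero]
    · simp only [Sum.elim_inr]
      rw [cX_vec_val hζ ht hv, val_inj hζ]
  rw [h2, Cfsg.Agent.H943.TorDim.card_filter_eq_count]
  have h3 : (Finset.univ : Finset chevE8.Idx).val.map (Sum.elim (fun _ => (0 : ZMod N))
      (fun s : Fin chevE8.nroots => ∑ i, (vec chevE8 8 s i : ZMod N) * v i)) =
      Multiset.replicate 8 (0 : ZMod N) + ms chevE8 8 v := by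
    exact univ_elim' (m := chevE8.rank) _ _
  rw [h3, Multiset.count_add, Multiset.count_replicate]
  congr 1
  by_cases hj : j = 0
  · rw [if_pos hj, if_pos hj.symm]
  · rw [if_neg hj, if_neg fun h => hj h.symm]

end

/-- the sum of a functional over the roots -/
def rsum (f : ℕ → ℤ) (Y : List ℕ) : ℤ := (R8.map fun r => f (dotN r Y % 40) + f ((40 - dotN r Y % 40) % 40)).sum

theorem dotF_vecL {r Y : List ℕ} (hr : r.length ≤ 8) : dotF r (vecL 40 Y) = ((dotN r Y : ℕ) : ZMod 40) := by
  unfold dotF vecL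
  rw [dotN_eq 8 r Y hr]
  push_cast
  rfl

/-- **the value of a functional** -/
theorem TorZ.sum {ζ : KK} (hζ : IsPrimitiveRoot ζ 40) {x : G8} {Y : List ℕ} (h : TorZ ζ x 40 (vecL 40 Y))
    (f : ℕ → ℤ) : ∑ j ∈ Finset.range 40, f j * (Module.finrank KK (LinearMap.ker (Matrix.toLin'
      ((((x : G8) : GL chevE8.Idx (ZMod 3)) : Matrix chevE8.Idx chevE8.Idx (ZMod 3)).map (algebraMap (ZMod 3) KK)) -
        (ζ ^ j) • (1 : Module.End KK (chevE8.Idx → KK)))) : ℤ) = 8 * f 0 + rsum f Y := by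
  classical
  have h1 : ∀ j ∈ Finset.range 40, f j * (Module.finrank KK (LinearMap.ker (Matrix.toLin'
      ((((x : G8) : GL chevE8.Idx (ZMod 3)) : Matrix chevE8.Idx chevE8.Idx (ZMod 3)).map (algebraMap (ZMod 3) KK)) -
        (ζ ^ j) • (1 : Module.End KK (chevE8.Idx → KK)))) : ℤ) =
      f j * (if j = 0 then 8 else 0) + f j * ((ms chevE8 8 (vecL 40 Y)).count (j : ZMod 40) : ℤ) := by
    intro j hj
    have h2 := h.dims hζ (j : ZMod 40)
    have hlt := Finset.mem_range.1 hj
    rw [ZMod.val_natCast, Nat.mod_eq_of_lt hlt] at h2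
    rw [h2]
    have h3 : ((j : ZMod 40) = 0) ↔ j = 0 := by
      rw [ZMod.natCast_eq_zero_iff]
      constructor
      · intro h4
        exact Nat.eq_zero_of_dvd_of_lt h4 hlt
      · rintro rfl
        exact dvd_zero _
    simp only [h3]
    push_cast
    ring
  rw [Finset.sum_congr rfl h1, Finset.sum_add_distrib]
  congr 1
  · rw [Finset.sum_eq_single 0]
    · rw [if_pos rfl, mul_comm]
    · intro j _ hj
      rw [if_neg hj, mul_zero]
    · intro h4
      exact absurd (Finset.mem_range.2 (by norm_num)) h4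
  · have h4 : ∑ j ∈ Finset.range 40, f j * ((ms chevE8 8 (vecL 40 Y)).count (j : ZMod 40) : ℤ) =
        ((ms chevE8 8 (vecL 40 Y)).map fun a : ZMod 40 => f a.val).sum := by
      have h5 : ∀ m : Multiset (ZMod 40), ∑ j ∈ Finset.range 40, f j * (m.count (j : ZMod 40) : ℤ) =
          (m.map fun a : ZMod 40 => f a.val).sum := by
        intro m
        induction m using Multiset.induction_on with
        | empty => simp
        | cons a m ih =>
          rw [Multiset.map_cons, Multiset.sum_cons, ← ih]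
          have h6 : ∀ j ∈ Finset.range 40, f j * ((a ::ₘ m).count (j : ZMod 40) : ℤ) =
              f j * (m.count (j : ZMod 40) : ℤ) + (if j = a.val then f j else 0) := by
            intro j hj
            have hlt := Finset.mem_range.1 hj
            rw [Multiset.count_cons]
            have h7 : ((j : ZMod 40) = a) ↔ j = a.val := by
              constructor
              · rintro rfl
                rw [ZMod.val_natCast, Nat.mod_eq_of_lt hlt]
              · rintro rfl
                exact ZMod.natCast_zmod_val a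
            simp only [h7]
            split_ifs <;> push_cast <;> ring
          rw [Finset.sum_congr rfl h6, Finset.sum_add_distrib, Finset.sum_ite_eq' (Finset.range 40) a.val f,
            if_pos (Finset.mem_range.2 (ZMod.val_lt a)), add_comm]
      exact h5 _
    rw [h4, sum_ms tab8]
    unfold rsum
    congr 1
    refine List.map_congr_left fun r hr => ?_
    rw [dotF_vecL (len8 r hr), ZMod.val_natCast]
    congr 2

/-- the value of a functional on the representation -/
theorem fun_rK {F : Type} [Field F] [Fintype F] (hcard : Fintype.card F = 81) (ι : F →+* KK)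
    (φ : SpecialLinearGroup (Fin 2) F →* G8) {lam : Fˣ} (hlam : ∀ x, x ∈ Subgroup.zpowers lam) {Y : List ℕ}
    (h : TorZ (ι lam ^ 2) (φ (Cfsg.Agent.H943.SL2Rel.h lam)) 40 (vecL 40 Y)) (f : ℕ → ℤ) (hf : ∀ κ, κ % 2 = 1 → f κ = 0) :
    ∑ κ ∈ Finset.range 80, f κ * (Module.finrank KK (eig (rK φ) (Cfsg.Agent.H943.SL2Rel.h lam) (ι lam ^ κ)) : ℤ) =
      8 * f 0 + rsum (fun j => f (2 * j)) Y := by
  have h1 := TorZ.sum (prim40 hcard ι hlam) h (fun j => f (2 * j))
  rw [mul_zero] at h1
  rw [← h1]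
  have h2 : ∀ n : ℕ, ∀ g : ℕ → ℤ, (∀ κ, κ % 2 = 1 → g κ = 0) →
      ∑ κ ∈ Finset.range (2 * n), g κ = ∑ j ∈ Finset.range n, g (2 * j) := by
    intro n g hg
    induction n with
    | zero => rfl
    | succ n ih =>
      rw [show 2 * (n + 1) = 2 * n + 1 + 1 by ring, Finset.sum_range_succ, Finset.sum_range_succ, ih,
        Finset.sum_range_succ, hg (2 * n + 1) (by omega), add_zero]
  rw [show (80 : ℕ) = 2 * 40 by norm_num, h2 40 _ fun κ hκ => by rw [hf κ hκ, zero_mul]]
  refine Finset.sum_congr rfl fun j _ => ?_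
  rw [← pow_mul]
  rfl

end Cfsg.Agent.H525.E8L
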