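import Cfsg.Agent.H525.E8L.Ops
import Cfsg.Agent.H940.E8L.Pressure

/-!
# Extensions of the trivial module by the modules `V_b` of `SL(2, 81)` (helper525, S5921)

`ext_main` : `E / W` trivial, `W ≅ V_b`, `b` even: the obstruction for lifting the elements of `E / W` to fixed vectors is
a linear functional `z`, zero unless `b = 4, 12, 36, 28`.
-/

set_option autoImplicit false
set_option linter.unusedSectionVars false

namespace Cfsg.Agent.H525.E8L

open Matrix Cfsg.Agent.H943.SL2Rel Cfsg.Agent.H943.SL2Mod Cfsg.Agent.H943.RepAdd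

/-! ### binomial coefficients modulo 3 -/

/-- the digits of `m` are at most those of `n` -/
def lc (n m : ℕ) : Bool :=
  Nat.ble (m % 3) (n % 3) && (Nat.ble (m / 3 % 3) (n / 3 % 3) && (Nat.ble (m / 9 % 3) (n / 9 % 3) &&
    Nat.ble (m / 27 % 3) (n / 27 % 3)))

theorem small_choose : ∀ a < 3, ∀ b < 3, (¬ 3 ∣ Nat.choose a b) ↔ Nat.ble b a = true := by decide

theorem lc_iff {n m : ℕ} (hn : n < 81) (hm : m < 81) : (¬ 3 ∣ n.choose m) ↔ lc n m = true := by
  have : Fact (Nat.Prime 3) := ⟨Nat.prime_three⟩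
  have h1 := Choose.choose_modEq_prod_range_choose_nat (p := 3) (a := 4) (n := n) (k := m) (by norm_num; exact hn)
    (by norm_num; exact hm)
  rw [(h1.dvd_iff (dvd_refl 3))]
  rw [Finset.prod_range_succ, Finset.prod_range_succ, Finset.prod_range_succ, Finset.prod_range_one]
  rw [Nat.prime_three.dvd_mul, Nat.prime_three.dvd_mul, Nat.prime_three.dvd_mul]
  have key : ∀ i : ℕ, (¬ 3 ∣ (n / 3 ^ i % 3).choose (m / 3 ^ i % 3)) ↔ Nat.ble (m / 3 ^ i % 3) (n / 3 ^ i % 3) = true :=
    fun i => small_choose _ (Nat.mod_lt _ (by norm_num)) _ (Nat.mod_lt _ (by norm_num))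
  have k0 := key 0
  have k1 := key 1
  have k2 := key 2
  have k3 := key 3
  norm_num at k0 k1 k2 k3
  unfold lc
  norm_num
  tauto

/-- the exceptional pairs -/
def isExc (b n : ℕ) : Bool :=
  (b == 4 && n == 2) || (b == 12 && n == 6) || (b == 36 && n == 18) || (b == 28 && n == 54)

/-- the Boolean check -/
def extB : Bool :=
  (List.range 81).all fun b => (b % 2 != 0) || (List.range 81).all fun n =>
    (n == 0) || lc b n || (2 * n % 80 != b % 80) ||
      ((List.range n).any fun j => (j != 0) && !(lc b (n - j)) && lc (80 - j) (n - j)) || isExc b n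

theorem extB_true : extB = true := by decide +kernel

theorem ext_check {b : ℕ} (hb : b < 81) (hb2 : b % 2 = 0) {n : ℕ} (hn : n < 81) (hn1 : 1 ≤ n) (hl : lc b n = false)
    (hm : 2 * n % 80 = b % 80) :
    (∃ j < n, 1 ≤ j ∧ lc b (n - j) = false ∧ lc (80 - j) (n - j) = true) ∨ isExc b n = true := by
  have h1 := extB_true
  unfold extB at h1
  rw [List.all_eq_true] at h1
  have h2 := h1 b (List.mem_range.2 hb)
  rw [hb2, Bool.or_eq_true] at h2
  rcases h2 with h2 | h2
  · exact absurd h2 (by decide)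
  rw [List.all_eq_true] at h2
  have h3 := h2 n (List.mem_range.2 hn)
  simp only [Bool.or_eq_true, beq_iff_eq, bne_iff_ne, hl, Bool.false_eq_true, or_false] at h3
  rcases h3 with ((h3 | h3) | h3) | h3
  · omega
  · exact absurd hm h3
  · left
    rw [List.any_eq_true] at h3
    obtain ⟨j, hj, h4⟩ := h3
    simp only [Bool.and_eq_true, bne_iff_ne, Bool.not_eq_true'] at h4
    exact ⟨j, List.mem_range.1 hj, by omega, h4.1.2, h4.2⟩
  · exact Or.inr h3

variable {k : Type*} [Field k] [DecidableEq k] {F : Type*} [Field F] [Fintype F] [DecidableEq F] (ι : F →+* k)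
  [CharP k 3] [CharP F 3]

theorem choose_cast {n m : ℕ} (hn : n < 81) (hm : m < 81) : ((n.choose m : ℕ) : k) ≠ 0 ↔ lc n m = true := by
  rw [Ne, CharP.cast_eq_zero_iff k 3, lc_iff hn hm]

theorem odd_of (hF : Fintype.card F = 81) : Odd (Fintype.card F) := by rw [hF]; decide

/-- the coefficient of `mon b` -/
theorem eval_one {b : ℕ} {f : F × F → k} (hf : f ∈ Vb ι b) (a : F) : f (a, 0) = ι a ^ b * f (1, 0) := by
  obtain ⟨c, rfl⟩ := mem_span_mon ι (Vb_le ι b hf)
  rw [Finset.sum_apply, Finset.sum_apply, Finset.mul_sum]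
  refine Finset.sum_congr rfl fun m hm => ?_
  rw [Finset.mem_range] at hm
  show c m * mon ι b m (a, 0) = ι a ^ b * (c m * mon ι b m (1, 0))
  unfold mon
  by_cases hmb : m = b
  · rw [hmb, Nat.sub_self, pow_zero, map_one, one_pow]
    ring
  · rw [map_zero, zero_pow (show b - m ≠ 0 by omega)]
    ring

/-- the values of `D_n` at `(1, 0)` -/
theorem Dm_eval (hF : Fintype.card F = 81) {b : ℕ} (hb : b ≤ 80) (x : Bf k b → k) {n : ℕ} (hn : 1 ≤ n) (hn' : n ≤ 80) :
    Dm ι (fRep k F) n (∑ m : Bf k b, x m • mon ι b m) (1, 0) =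
      if h : n ≤ b ∧ b - n ∈ Bf k b then x ⟨b - n, h.2⟩ else 0 := by
  rw [map_sum, Finset.sum_apply]
  have h1 : ∀ m : Bf k b, (Dm ι (fRep k F) n (x m • mon ι b m)) (1, 0) = if (m : ℕ) + n = b then x m else 0 := by
    intro m
    have hm := (mem_Bf.1 m.2).1
    rw [map_smul, Dm_mon ι hF hb hm hn hn']
    show x m * (((b - (m : ℕ)).choose n : k) * mon ι b ((m : ℕ) + n) (1, 0)) = _
    by_cases h2 : (m : ℕ) + n = b
    · rw [if_pos h2, show b - (m : ℕ) = n by omega, Nat.choose_self, h2, mon_self, map_one, one_pow]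
      ring
    · rw [if_neg h2]
      by_cases h3 : (m : ℕ) + n < b
      · unfold mon
        rw [map_zero, zero_pow (show b - ((m : ℕ) + n) ≠ 0 by omega)]
        ring
      · rw [Nat.choose_eq_zero_of_lt (show b - (m : ℕ) < n by omega)]
        ring
  rw [Finset.sum_congr rfl fun m _ => h1 m]
  split_ifs with h
  · rw [Finset.sum_eq_single (⟨b - n, h.2⟩ : Bf k b)]
    · rw [if_pos (show b - n + n = b by omega)]
    · intro m _ hm
      rw [if_neg]
      intro h2
      exact hm (Subtype.ext (show (m : ℕ) = b - n by omega))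
    · intro h2
      exact absurd (Finset.mem_univ _) h2
  · refine Finset.sum_eq_zero fun m _ => ?_
    rw [if_neg]
    intro h2
    apply h
    refine ⟨by omega, ?_⟩
    have : b - n = (m : ℕ) := by omega
    rw [this]
    exact m.2

section Main

variable {E : Type*} [AddCommGroup E] [Module k E] [FiniteDimensional k E]
  (ρ : Representation k (SpecialLinearGroup (Fin 2) F) E) (W : Submodule k E) (hW : ∀ g, ∀ x ∈ W, ρ g x ∈ W)

/-- `B`-fixed vectors give fixed vectors -/
theorem avg_fixed {x : E} (hu : ∀ t, ρ (u t) x = x) (hh : ∀ a, ρ (h a) x = x) (g : SpecialLinearGroup (Fin 2) F) :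
    ρ g (x + ∑ t : F, ρ (u t) (ρ w x)) = x + ∑ t : F, ρ (u t) (ρ w x) := by
  classical
  refine induct (P := fun g => ρ g (x + ∑ t : F, ρ (u t) (ρ w x)) = x + ∑ t : F, ρ (u t) (ρ w x)) ?_ ?_ ?_ ?_ g
  · intro s
    rw [map_add, hu, map_sum]
    congr 1
    refine Fintype.sum_equiv (Equiv.addLeft s) _ _ fun t => ?_
    rw [apply_mul, ← u_add]
    rfl
  · intro a
    rw [map_add, hh, map_sum]
    congr 1
    have ha : (a : F) ^ 2 ≠ 0 := pow_ne_zero _ a.ne_zero
    refine Fintype.sum_equiv (Equiv.mulLeft₀ ((a : F) ^ 2) ha) _ _ fun t => ?_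
    rw [apply_mul3, h_u, mul_assoc, h_w, map_mul, map_mul]
    show ρ (u ((a : F) ^ 2 * t)) (ρ w (ρ (h a⁻¹) x)) = _
    rw [hh]
    rfl
  · rw [map_add, map_sum, ← Finset.add_sum_erase _ _ (Finset.mem_univ (0 : F)), u_zero, map_one,
      Module.End.one_apply, ww, hh]
    have h1 : ∑ t ∈ Finset.univ.erase (0 : F), ρ w (ρ (u t) (ρ w x)) =
        ∑ t ∈ Finset.univ.erase (0 : F), ρ (u t) (ρ w x) := by
      refine Finset.sum_bij' (fun t _ => -t⁻¹) (fun t _ => -t⁻¹) ?_ ?_ ?_ ?_ ?_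
      · intro t ht
        exact Finset.mem_erase.2 ⟨neg_ne_zero.2 (inv_ne_zero (Finset.ne_of_mem_erase ht)), Finset.mem_univ _⟩
      · intro t ht
        exact Finset.mem_erase.2 ⟨neg_ne_zero.2 (inv_ne_zero (Finset.ne_of_mem_erase ht)), Finset.mem_univ _⟩
      · intro t ht
        simp
      · intro t ht
        simp
      · intro t ht
        have hD : UFix ρ (Submodule.span k {x}) := by
          intro s d hd
          obtain ⟨c, rfl⟩ := Submodule.mem_span_singleton.1 hd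
          rw [map_smul, hu]
        rw [wuw ρ hD (Finset.ne_of_mem_erase ht) (Submodule.mem_span_singleton_self x), hh]
    have h2 := Finset.add_sum_erase Finset.univ (fun t : F => ρ (u t) (ρ w x)) (Finset.mem_univ (0 : F))
    rw [u_zero, map_one, Module.End.one_apply] at h2
    rw [h1, ← h2]
    abel
  · intro a b ha hb
    rw [map_mul, Module.End.mul_apply, hb, ha]

include hW in
/-- **the obstruction** -/
theorem ext_main (hF : Fintype.card F = 81) {b : ℕ} (hb : b ≤ Fintype.card F - 1) (hbe : Even b)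
    (φ : Vb ι b ≃ₗ[k] W)
    (hφ : ∀ g x, φ (rb ι 3 (odd_of hF) hb g x) = subRep ρ W hW g (φ x)) (htr : ∀ g x, ρ g x - x ∈ W) :
    ∃ z : E →ₗ[k] k, (∀ x ∈ W, z x = 0) ∧ ((∀ n, isExc b n = false) → z = 0) ∧
      (∀ n, isExc b n = true → ∀ x, Dm ι ρ n x = 0 → z x = 0) ∧
      ∀ x, z x = 0 → ∃ x', (∀ g, ρ g x' = x') ∧ x' - x ∈ W := by
  have h3 : Fact (Nat.Prime 3) := ⟨Nat.prime_three⟩
  have hb' : b ≤ 80 := by rw [hF] at hb; exact hb
  have hq : Fintype.card F - 1 = 80 := by rw [hF]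
  have hcard : (Fintype.card Fˣ : k) = -1 := by
    rw [Fintype.card_units, hF]
    have h3 : ((3 : ℕ) : k) = 0 := CharP.cast_eq_zero k 3
    have h4 : ((81 - 1 : ℕ) : k) = (27 : k) * ((3 : ℕ) : k) - 1 := by norm_num
    rw [h4, h3]
    ring
  have hane : ∀ a : Fˣ, ι (a : F) ≠ 0 := fun a => (map_ne_zero ι).2 a.ne_zero
  -- the functional
  let δ : Vb ι b →ₗ[k] k := (LinearMap.proj ((1 : F), (0 : F))) ∘ₗ (Vb ι b).subtype
  obtain ⟨m', hm'⟩ := LinearMap.exists_extend (δ ∘ₗ (φ.symm : W →ₗ[k] Vb ι b))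
  have hm'φ : ∀ f : Vb ι b, m' (φ f : E) = (f : F × F → k) (1, 0) := by
    intro f
    have h1 := LinearMap.congr_fun hm' (φ f)
    have h2 : m' (φ f : E) = δ (φ.symm (φ f)) := h1
    rw [h2, LinearEquiv.symm_apply_apply]
    rfl
  have hφ' : ∀ g f, ρ g (φ f : E) = (φ (rb ι 3 (odd_of hF) hb g f) : E) := by
    intro g f
    rw [hφ]
    rfl
  let m : E →ₗ[k] k := -∑ a : Fˣ, ((ι (a : F))⁻¹ ^ b) • (m' ∘ₗ (ρ (h a) : E →ₗ[k] E))
  have hm_apply : ∀ x, m x = -∑ a : Fˣ, ((ι (a : F))⁻¹ ^ b) * m' (ρ (h a) x) := by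
    intro x
    simp [m, LinearMap.sum_apply]
  have hmφ : ∀ f : Vb ι b, m (φ f : E) = (f : F × F → k) (1, 0) := by
    intro f
    rw [hm_apply]
    have h1 : ∀ a : Fˣ, ((ι (a : F))⁻¹ ^ b) * m' (ρ (h a) (φ f : E)) = (f : F × F → k) (1, 0) := by
      intro a
      rw [hφ', hm'φ]
      have h2 : ((rb ι 3 (odd_of hF) hb (h a) f : Vb ι b) : F × F → k) (1, 0) = (f : F × F → k) ((a : F), 0) := by
        show fRep k F (h a) (f : F × F → k) (1, 0) = _
        rw [fRep_h, one_mul, zero_mul]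
      rw [h2, eval_one ι f.2, ← mul_assoc, ← mul_pow, inv_mul_cancel₀ (hane a), one_pow, one_mul]
    rw [Finset.sum_congr rfl fun a _ => h1 a, Finset.sum_const, Finset.card_univ, nsmul_eq_mul, hcard]
    ring
  have hmh : ∀ a x, m (ρ (h a) x) = ι (a : F) ^ b * m x := by
    intro a x
    rw [hm_apply, hm_apply, mul_neg, Finset.mul_sum]
    congr 1
    refine Fintype.sum_equiv (Equiv.mulRight a) _ _ fun c => ?_
    rw [apply_mul, ← h_mul]
    show _ = ι (a : F) ^ b * ((ι ((c * a : Fˣ) : F))⁻¹ ^ b * m' (ρ (h (c * a)) x))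
    rw [← mul_assoc]
    congr 1
    rw [Units.val_mul, map_mul, mul_inv, mul_pow, mul_comm ((ι (c : F))⁻¹ ^ b), ← mul_assoc, ← mul_pow,
      mul_inv_cancel₀ (hane a), one_pow, one_mul]
  -- the functionals `z_n`
  have hDφ : ∀ n (f : Vb ι b), ((Dm ι ρ n (φ f : E)) : E) = (φ (Dm ι (rb ι 3 (odd_of hF) hb) n f) : E) := by
    intro n f
    rw [Dm_apply, Dm_apply, map_neg, map_sum]
    push_cast
    congr 1
    refine Finset.sum_congr rfl fun t _ => ?_
    rw [map_smul, Submodule.coe_smul, hφ']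
  have hDco : ∀ n (f : Vb ι b), ((Dm ι (rb ι 3 (odd_of hF) hb) n f : Vb ι b) : F × F → k) =
      Dm ι (fRep k F) n (f : F × F → k) := by
    intro n f
    rw [Dm_apply, Dm_apply]
    push_cast
    rfl
  obtain ⟨e, he⟩ := exists_coord ι 3 ι.injective (odd_of hF) hb
  have hzφ : ∀ (x : Bf k b → k) (n : ℕ), 1 ≤ n → n ≤ 80 → m (Dm ι ρ n (φ (e x) : E)) =
      if h : n ≤ b ∧ b - n ∈ Bf k b then x ⟨b - n, h.2⟩ else 0 := by
    intro x n hn hn'
    rw [hDφ, hmφ, hDco, he, Dm_eval ι hF hb' x hn hn']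
  have hBf : ∀ n ≤ b, (b - n ∈ Bf k b ↔ lc b n = true) := by
    intro n hn
    rw [mem_Bf]
    unfold Bb
    rw [Set.mem_ofPred_eq, Nat.choose_symm hn, choose_cast (by omega) (by omega)]
    exact ⟨fun h => h.2, fun h => ⟨Nat.sub_le _ _, h⟩⟩
  have hz0 : ∀ n, 1 ≤ n → n ≤ 80 → lc b n = false → ∀ y ∈ W, m (Dm ι ρ n y) = 0 := by
    intro n hn hn' hl y hy
    obtain ⟨f, hf⟩ := φ.surjective ⟨y, hy⟩
    obtain ⟨x, rfl⟩ := e.surjective f
    have h1 : y = (φ (e x) : E) := by rw [hf]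
    rw [h1, hzφ x n hn hn', dif_neg]
    rintro ⟨h2, h3⟩
    rw [hBf n h2, hl] at h3
    exact Bool.noConfusion h3
  have hzero : ∀ n, 1 ≤ n → n ≤ 80 → lc b n = false → isExc b n = false → ∀ x, m (Dm ι ρ n x) = 0 := by
    intro n hn hn' hl hex x
    by_cases hmod : 2 * n % 80 = b % 80
    · rcases ext_check (b := b) (by omega) (Nat.even_iff.1 hbe) (n := n) (by omega) hn hl hmod with ⟨j, hj, hj1, hj2, hj3⟩ | h
      · have h1 := hz0 (n - j) (by omega) (by omega) hj2 _ (Dm_mem ι ρ hF htr hj1 x)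
        rw [Dm_mul ι ρ hF (by omega) hj1 (by omega) (by omega), map_smul, smul_eq_mul,
          show n - j + j = n by omega] at h1
        have h2 : ((80 - j).choose (n - j) : k) ≠ 0 := (choose_cast (by omega) (by omega)).2 hj3
        exact (mul_eq_zero.1 h1).resolve_left (mul_ne_zero (pow_ne_zero _ (neg_ne_zero.2 one_ne_zero)) h2)
      · rw [hex] at h
        exact Bool.noConfusion h
    · obtain ⟨lam, hlam⟩ := IsCyclic.exists_generator (α := Fˣ)
      have hprim := primitive ι ι.injective hlam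
      rw [hq] at hprim
      have h1 : ι (lam : F) ^ b * m (Dm ι ρ n x) = ι (lam : F) ^ (2 * n) * m (Dm ι ρ n x) := by
        rw [← hmh, h_Dm ι ρ hF hn', map_smul, smul_eq_mul]
        congr 1
        have h2 := hz0 n hn hn' hl _ (htr (h lam) x)
        rwa [map_sub, map_sub, sub_eq_zero] at h2
      by_contra hne
      have h2 := mul_right_cancel₀ hne h1
      apply hmod
      have h3 := (hprim.isOfFinOrder (by norm_num)).pow_eq_pow_iff_modEq.1 h2
      rw [← hprim.eq_orderOf] at h3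
      exact h3.symm
  -- the obstruction
  obtain ⟨z, hzW, hzE, hzD, hzall⟩ : ∃ z : E →ₗ[k] k, (∀ x ∈ W, z x = 0) ∧ ((∀ n, isExc b n = false) → z = 0) ∧
      (∀ n, isExc b n = true → ∀ x, Dm ι ρ n x = 0 → z x = 0) ∧
      ∀ x, z x = 0 → ∀ n, 1 ≤ n → n ≤ 80 → lc b n = false → m (Dm ι ρ n x) = 0 := by
    by_cases hex : ∃ n, isExc b n = true
    · obtain ⟨n, hn⟩ := hex
      have hn80 : 1 ≤ n ∧ n ≤ 80 ∧ lc b n = false ∧ ∀ n', isExc b n' = true → n' = n := by
        unfold isExc at hn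
        simp only [Bool.or_eq_true, Bool.and_eq_true, beq_iff_eq] at hn
        rcases hn with ((⟨rfl, rfl⟩ | ⟨rfl, rfl⟩) | ⟨rfl, rfl⟩) | ⟨rfl, rfl⟩ <;>
        · refine ⟨by norm_num, by norm_num, by decide, fun n' hn' => ?_⟩
          simpa [isExc] using hn'
      refine ⟨m ∘ₗ Dm ι ρ n, fun x hx => hz0 n hn80.1 hn80.2.1 hn80.2.2.1 x hx, fun h => ?_, fun n' hn' x hx => ?_,
        fun x hx n' h1 h2 h3 => ?_⟩
      · rw [h n] at hn
        exact Bool.noConfusion hn
      · rw [hn80.2.2.2 n' hn'] at hx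
        show m (Dm ι ρ n x) = 0
        rw [hx, map_zero]
      · by_cases hn' : isExc b n' = true
        · rw [hn80.2.2.2 n' hn']
          exact hx
        · exact hzero n' h1 h2 h3 (Bool.eq_false_iff.2 hn') x
    · push Not at hex
      refine ⟨0, fun x _ => rfl, fun _ => rfl, fun _ _ _ _ => rfl, fun x _ n h1 h2 h3 =>
        hzero n h1 h2 h3 (Bool.eq_false_iff.2 (hex n)) x⟩
  refine ⟨z, hzW, hzE, hzD, fun x hx => ?_⟩
  -- the correction
  let γ : Bf k b → k := fun j => if (j : ℕ) = b then m x else m (Dm ι ρ (b - j) x)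
  let v : E := (φ (e γ) : E)
  have hvW : v ∈ W := (φ (e γ)).2
  have hbB : b ∈ Bf k b := by
    rw [mem_Bf]
    exact ⟨le_rfl, by rw [Nat.choose_self, Nat.cast_one]; exact one_ne_zero⟩
  have hcoef : ∀ y : Bf k b → k, m (φ (e y) : E) = y ⟨b, hbB⟩ := by
    intro y
    rw [hmφ, he, Finset.sum_apply, Finset.sum_eq_single (⟨b, hbB⟩ : Bf k b)]
    · show y _ * mon ι b b (1, 0) = _
      rw [mon_self, map_one, one_pow, mul_one]
    · intro j _ hj
      show y _ * mon ι b j (1, 0) = 0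
      have h1 := (mem_Bf.1 j.2).1
      have h2 : (j : ℕ) ≠ b := fun h => hj (Subtype.ext h)
      unfold mon
      rw [map_zero, zero_pow (show b - (j : ℕ) ≠ 0 by omega)]
      ring
    · intro h
      exact absurd (Finset.mem_univ _) h
  have hx1 : m (x - v) = 0 := by
    rw [map_sub, hcoef, sub_eq_zero]
    show m x = if b = b then m x else _
    rw [if_pos rfl]
  have hx2 : ∀ n, 1 ≤ n → n ≤ 80 → m (Dm ι ρ n (x - v)) = 0 := by
    intro n hn hn'
    rw [map_sub, map_sub, sub_eq_zero, hzφ γ n hn hn']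
    split_ifs with h
    · show _ = if b - n = b then m x else m (Dm ι ρ (b - (b - n)) x)
      rw [if_neg (by omega), show b - (b - n) = n by omega]
    · refine hzall x hx n hn hn' ?_
      by_cases h2 : n ≤ b
      · rw [← Bool.not_eq_true, ← hBf n h2]
        exact fun h3 => h ⟨h2, h3⟩
      · rw [← Bool.not_eq_true, ← choose_cast (k := k) (by omega) (by omega)]
        rw [Nat.choose_eq_zero_of_lt (by omega), Nat.cast_zero]
        exact fun h3 => h3 rfl
  -- vanishing
  have hvan : ∀ y ∈ W, m y = 0 → (∀ n, 1 ≤ n → n ≤ 80 → m (Dm ι ρ n y) = 0) → y = 0 := by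
    intro y hy h1 h2
    obtain ⟨f, hf⟩ := φ.surjective ⟨y, hy⟩
    obtain ⟨c, rfl⟩ := e.surjective f
    have h4 : y = (φ (e c) : E) := by rw [hf]
    have h5 : c = 0 := by
      funext j
      have hj := (mem_Bf.1 j.2).1
      by_cases hjb : (j : ℕ) = b
      · have h6 := hcoef c
        rw [← h4, h1] at h6
        have h7 : j = ⟨b, hbB⟩ := Subtype.ext hjb
        rw [h7, ← h6]
        rfl
      · have h6 := h2 (b - j) (by omega) (by omega)
        rw [h4, hzφ c _ (by omega) (by omega), dif_pos ⟨Nat.sub_le _ _, by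
          rw [show b - (b - (j : ℕ)) = j by omega]; exact j.2⟩] at h6
        have h7 : (⟨b - (b - (j : ℕ)), by rw [show b - (b - (j : ℕ)) = j by omega]; exact j.2⟩ : Bf k b) = j :=
          Subtype.ext (show b - (b - (j : ℕ)) = j by omega)
        rw [h7] at h6
        exact h6
    rw [h4, h5, map_zero, map_zero]
    rfl
  set x' := x - v with hx'
  have hu : ∀ t, ρ (u t) x' = x' := by
    intro t
    rw [← sub_eq_zero]
    have h1 : ρ (u t) x' - x' = ∑ j ∈ Finset.Icc 1 80, ι t ^ j • Dm ι ρ j x' := by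
      rw [u_eq ι ρ hF t x', add_sub_cancel_left]
    refine hvan _ (htr _ _) ?_ ?_
    · rw [h1, map_sum]
      refine Finset.sum_eq_zero fun j hj => ?_
      rw [Finset.mem_Icc] at hj
      rw [map_smul, hx2 j hj.1 hj.2, smul_zero]
    · intro n hn hn'
      rw [h1, map_sum, map_sum]
      refine Finset.sum_eq_zero fun j hj => ?_
      rw [Finset.mem_Icc] at hj
      rw [map_smul, map_smul, Dm_mul ι ρ hF hn hj.1 hj.2 hn', map_smul]
      by_cases hnj : n + j ≤ 80
      · rw [hx2 _ (by omega) hnj, smul_zero, smul_zero]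
      · rw [Nat.choose_eq_zero_of_lt (show 80 - j < n by omega), Nat.cast_zero, mul_zero, zero_smul, smul_zero]
  have hh : ∀ a, ρ (h a) x' = x' := by
    intro a
    rw [← sub_eq_zero]
    refine hvan _ (htr _ _) ?_ ?_
    · rw [map_sub, hmh, hx1, mul_zero, sub_zero]
    · intro n hn hn'
      rw [map_sub, map_sub, hx2 n hn hn', sub_zero]
      have h1 := hmh a (Dm ι ρ n x')
      rw [h_Dm ι ρ hF hn', map_smul, hx2 n hn hn', mul_zero, smul_eq_mul] at h1
      exact (mul_eq_zero.1 h1).resolve_left (pow_ne_zero _ (hane a))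
  refine ⟨x' + ∑ t : F, ρ (u t) (ρ w x'), avg_fixed ρ hu hh, ?_⟩
  have h1 : ∑ t : F, ρ (u t) (ρ w x') ∈ W := by
    have h2 : ∑ t : F, ρ (u t) (ρ w x') = ∑ t : F, (ρ (u t * w) x' - x') := by
      rw [Finset.sum_sub_distrib, Finset.sum_const, Finset.card_univ, hF, ← Nat.cast_smul_eq_nsmul k]
      have h3 : ((81 : ℕ) : k) = 0 := by
        rw [CharP.cast_eq_zero_iff k 3]
        norm_num
      rw [h3, zero_smul, sub_zero]
      exact Finset.sum_congr rfl fun t _ => apply_mul ρ _ _ _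
    rw [h2]
    exact sum_mem fun t _ => htr _ _
  have h2 : x' + ∑ t : F, ρ (u t) (ρ w x') - x = ∑ t : F, ρ (u t) (ρ w x') - v := by
    rw [hx']
    abel
  rw [h2]
  exact W.sub_mem h1 hvW

end Main

end Cfsg.Agent.H525.E8L
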