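import Cfsg.Agent.H525.E8L.YSix
import Cfsg.Agent.H434.E8L.Group
import Cfsg.Agent.H72.E8T.Torus
import Cfsg.Agent.H943.ClassA
import Cfsg.Agent.H943.L729
import Cfsg.Agent.H943.L2187
import Cfsg.Agent.H940.E8L.NonSplitStmt
import Cfsg.Agent.H940.E8L.En41
import Cfsg.Agent.H943.No6
import Cfsg.Agent.LieClassical.FieldTransfer

/-!
# S5921: assembly (helper525)
-/

set_option autoImplicit false

namespace Cfsg.Agent.H525.E8L

open Matrix
open Cfsg.Lie

theorem noSixStmt : NoSixStmt := fun _ hη _ hx _ h h6 => Cfsg.Agent.H943.No6.no6 hη hx h h6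

/-- CLASS -/
theorem classStmt : ClassStmt := by
  intro F _ _ hcard ι φ hk lam hlam
  obtain ⟨Y, hY, hT⟩ := Cfsg.Agent.H943.ClassA.classes F hcard ι φ hk lam hlam
  simp only [List.mem_cons, List.not_mem_nil, or_false] at hY
  rcases hY with h | h | h | h | h | h | h
  · exact ⟨Y, by simp [h], hT⟩
  · exact ⟨Y, by simp [h], hT⟩
  · exact ⟨Y, by simp [h], hT⟩
  · exact ⟨Y, by simp [h], hT⟩
  · exact ⟨Y, by simp [h], hT⟩
  · subst h
    exact (noSix_of Cfsg.Agent.H940.E8L.nonSplitStmt noSixStmt F hcard ι φ hk lam hlam hT).elim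
  · exact ⟨Y, by simp [h], hT⟩

/-- **`L₂(81)`** -/
theorem no_L81 (h3 : P3Stmt) (h57 : P57Stmt) {F : Type*} [Field F] [Fintype F]
    (hcard : Fintype.card F = 81) (H : Subgroup G8)
    (hH : Nonempty (↥(Cfsg.generalizedFittingSubgroup ↥H) ≃* ProjectiveSpecialLinearGroup (Fin 2) F)) :
    ¬ IsCoatom H := by
  obtain ⟨e⟩ := hH
  have h3' : Fact (Nat.Prime 3) := ⟨Nat.prime_three⟩
  have : Fintype (GaloisField 3 4) := Fintype.ofFinite _
  have hc : Fintype.card (GaloisField 3 4) = 81 := by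
    rw [← Nat.card_eq_fintype_card, GaloisField.card 3 4 (by norm_num)]
    norm_num
  have e' : F ≃+* GaloisField 3 4 := FiniteField.ringEquivOfCardEq (by rw [hcard, hc])
  exact no_L81_of Cfsg.Agent.H434.E8L.groupStmt Cfsg.Agent.H434.E8L.centreStmt classStmt
    (fixStmt_of (fixThree Cfsg.Agent.H940.E8L.nonSplitStmt Cfsg.Agent.H940.E8L.enum41Stmt)) Cfsg.Agent.H72.E8T.torus h3 h57 (GaloisField 3 4) hc H
    ⟨e.trans (Cfsg.Agent.LieClassical.FieldTransfer.pslCongr e')⟩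

/-- **S5921** -/
theorem s5921_of (h3 : P3Stmt) (h57 : P57Stmt)
    {F : Type*} [Field F] [Fintype F] (n : ℕ) (hn : n = 4 ∨ n = 5 ∨ n = 6 ∨ n = 7) (hF : Fintype.card F = 3 ^ n)
    (H : Subgroup ↥(Cfsg.Lie.chevE8.group (ZMod 3)))
    (hH : Nonempty (↥(Cfsg.generalizedFittingSubgroup ↥H) ≃* Matrix.ProjectiveSpecialLinearGroup (Fin 2) F)) :
    ¬ IsCoatom H := by
  have key : ∀ e : ↥(Cfsg.generalizedFittingSubgroup ↥H) ≃* Matrix.ProjectiveSpecialLinearGroup (Fin 2) F,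
      Nonempty (↥((Cfsg.generalizedFittingSubgroup ↥H).map H.subtype) ≃* ProjectiveSpecialLinearGroup (Fin 2) F) :=
    fun e => ⟨(Subgroup.equivMapOfInjective _ _ H.subtype_injective).symm.trans e⟩
  rcases hn with rfl | rfl | rfl | rfl
  · exact no_L81 h3 h57 (by rw [hF]; norm_num) H hH
  · obtain ⟨e⟩ := hH
    obtain ⟨e'⟩ := key e
    exact ((Cfsg.Agent.H943.L243.no_L243 (by rw [hF]; norm_num) _).false e').elim
  · obtain ⟨e⟩ := hH
    obtain ⟨e'⟩ := key e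
    exact ((Cfsg.Agent.H943.L729.no_L729 (by rw [hF]; norm_num) _).false e').elim
  · obtain ⟨e⟩ := hH
    obtain ⟨e'⟩ := key e
    exact ((Cfsg.Agent.H943.L2187.no_L2187 (by rw [hF]; norm_num) _).false e').elim

end Cfsg.Agent.H525.E8L
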