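import Cfsg.Agent.H525.E8L.POne
import Cfsg.Agent.H525.E8L.Dims
import Cfsg.Agent.H940.E8L.Hecke
import Cfsg.Agent.H597.E8Form

/-!
# Fixed vectors of `L₂(81)` in the first, second and fourth class (helper525, S5921)
-/

set_option autoImplicit false
set_option linter.unusedSectionVars false
set_option maxRecDepth 100000

namespace Cfsg.Agent.H525.E8L

open Matrix
open Cfsg Cfsg.Lie Cfsg.Lie.ChevalleyDatum
open Cfsg.Agent.H943.SL2Rel Cfsg.Agent.H943.RepAdd Cfsg.Agent.H940.E8L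
open Cfsg.Agent.H942.E8Alc

/-! ### the invariant form -/

section Form

/-- the form -/
noncomputable def formJ : Matrix chevE8.Idx chevE8.Idx KK := (Cfsg.Agent.H597.E8Form.form KK).choose

theorem formJ_spec : (formJ).transpose = formJ ∧ IsUnit formJ.det ∧ ∀ g ∈ chevE8.group KK,
    (g : Matrix chevE8.Idx chevE8.Idx KK).transpose * formJ * (g : Matrix chevE8.Idx chevE8.Idx KK) = formJ :=
  (Cfsg.Agent.H597.E8Form.form KK).choose_spec

/-- the bilinear form -/
noncomputable def formB : (chevE8.Idx → KK) →ₗ[KK] (chevE8.Idx → KK) →ₗ[KK] KK := Matrix.toLinearMap₂' KK formJ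

theorem formB_apply (x y : chevE8.Idx → KK) : formB x y = x ⬝ᵥ (formJ *ᵥ y) := by
  unfold formB
  rw [Matrix.toLinearMap₂'_apply']

theorem formB_nd (x : chevE8.Idx → KK) (h : ∀ y, formB x y = 0) : x = 0 := by
  have h1 : x ᵥ* formJ = 0 := by
    funext i
    have h2 := h (Pi.single i 1)
    rw [formB_apply, Matrix.dotProduct_mulVec] at h2
    simpa using h2
  have h2 : (x ᵥ* formJ) ᵥ* formJ⁻¹ = x := by
    rw [Matrix.vecMul_vecMul, Matrix.mul_nonsing_inv _ formJ_spec.2.1, Matrix.vecMul_one]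
  rw [← h2, h1, Matrix.zero_vecMul]

variable {F : Type} [Field F]

theorem rK_apply (φ : SpecialLinearGroup (Fin 2) F →* G8) (g : SpecialLinearGroup (Fin 2) F) (v : chevE8.Idx → KK) :
    rK φ g v = (((φ g : G8) : GL chevE8.Idx (ZMod 3)) : Matrix chevE8.Idx chevE8.Idx (ZMod 3)).map
      (algebraMap (ZMod 3) KK) *ᵥ v := by
  show Matrix.toLin' _ v = _
  rw [Matrix.toLin'_apply]

theorem formB_inv (φ : SpecialLinearGroup (Fin 2) F →* G8) (g : SpecialLinearGroup (Fin 2) F)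
    (x y : chevE8.Idx → KK) : formB (rK φ g x) (rK φ g y) = formB x y := by
  have h1 := formJ_spec.2.2 ((eK (φ g) : GK) : GL chevE8.Idx KK) (eK (φ g)).2
  have h2 : (((eK (φ g) : GK) : GL chevE8.Idx KK) : Matrix chevE8.Idx chevE8.Idx KK) =
      (((φ g : G8) : GL chevE8.Idx (ZMod 3)) : Matrix chevE8.Idx chevE8.Idx (ZMod 3)).map (algebraMap (ZMod 3) KK) := by
    rw [Cfsg.Agent.GpExc.Field.coe_emb, Cfsg.Agent.GpExc.Field.coe_glMap]
  rw [h2] at h1
  rw [rK_apply, rK_apply, formB_apply, formB_apply]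
  set A := (((φ g : G8) : GL chevE8.Idx (ZMod 3)) : Matrix chevE8.Idx chevE8.Idx (ZMod 3)).map (algebraMap (ZMod 3) KK)
  rw [Matrix.mulVec_mulVec, Matrix.dotProduct_mulVec, ← Matrix.vecMul_transpose, Matrix.vecMul_vecMul,
    ← Matrix.mul_assoc, h1, ← Matrix.dotProduct_mulVec]

end Form

/-! ### descent -/

theorem descend {F : Type} [Field F] (φ : SpecialLinearGroup (Fin 2) F →* G8) (h : ¬ NoFix (rK φ)) :
    ∃ a : chevE8.Idx → ZMod 3, a ≠ 0 ∧ ∀ s ∈ φ.range, act s a = a := by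
  unfold NoFix at h
  push Not at h
  obtain ⟨x, hx, hx0⟩ := h
  obtain ⟨i, hi⟩ : ∃ i, x i ≠ 0 := by
    by_contra hcon
    push Not at hcon
    exact hx0 (funext hcon)
  obtain ⟨ℓ, hℓ⟩ : ∃ ℓ : Module.Dual (ZMod 3) KK, ℓ (x i) ≠ 0 := by
    by_contra hcon
    push Not at hcon
    exact hi ((Module.forall_dual_apply_eq_zero_iff (ZMod 3) (x i)).1 hcon)
  refine ⟨fun j => ℓ (x j), fun h0 => hℓ (congrFun h0 i), ?_⟩
  rintro _ ⟨g, rfl⟩
  funext j
  have h1 := congrFun (hx g) j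
  rw [rK_apply] at h1
  show ∑ m, _ * ℓ (x m) = ℓ (x j)
  rw [← h1]
  show _ = ℓ (∑ m, _ * x m)
  rw [map_sum]
  refine Finset.sum_congr rfl fun m _ => ?_
  rw [Matrix.map_apply, ← Algebra.smul_def, map_smul, smul_eq_mul]

/-! ### the classes -/

theorem orbF_odd (L : List ℤ) (κ : ℕ) (hκ : κ % 2 = 1) : orbF L κ = 0 := by
  unfold orbF
  rw [if_pos hκ]

theorem v1 : 8 * orbF L1 0 + rsum (fun j => orbF L1 (2 * j)) Y1 = 0 := by decide +kernel
theorem v1g : 8 * orbF Lg 0 + rsum (fun j => orbF Lg (2 * j)) Y1 = 56 := by decide +kernel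
theorem v2 : 8 * orbF L24 0 + rsum (fun j => orbF L24 (2 * j)) Y2 = 12 := by decide +kernel
theorem v4 : 8 * orbF L24 0 + rsum (fun j => orbF L24 (2 * j)) Y4 = 4 := by decide +kernel

/-- the indicator of the weights `4 * 3 ^ i` -/
def ind4 (κ : ℕ) : ℤ := if κ = 4 ∨ κ = 12 ∨ κ = 36 ∨ κ = 28 then 1 else 0

theorem v1i : 8 * ind4 0 + rsum (fun j => ind4 (2 * j)) Y1 = 32 := by decide +kernel

section

variable {F : Type} [Field F] [Fintype F] (hcard : Fintype.card F = 81) (ι : F →+* KK)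
  (φ : SpecialLinearGroup (Fin 2) F →* G8)
  (hk : ∀ g, φ g = 1 ↔ g ∈ Subgroup.center (SpecialLinearGroup (Fin 2) F))
  (lam : Fˣ) (hlam : ∀ x, x ∈ Subgroup.zpowers lam)

include hcard in
theorem charP3 : CharP F 3 := by
  obtain ⟨⟨m, hm⟩, hp', hc⟩ := FiniteField.card F (ringChar F)
  rw [hcard] at hc
  have h1 : ringChar F ∣ 3 ^ 4 := by
    rw [show (3 : ℕ) ^ 4 = 81 by norm_num, hc]
    exact dvd_pow_self _ (by simpa using hm.ne')
  have h2 := (Nat.prime_dvd_prime_iff_eq hp' Nat.prime_three).1 (hp'.dvd_of_dvd_pow h1)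
  exact h2 ▸ ringChar.charP F

include hk in
theorem rK_neg : rK φ (h (-1)) = 1 :=
  Cfsg.Agent.H943.PSLHom.rep_eq_one _ _
    ((hk _).2 (Cfsg.Agent.H943.PSLHom.h_mem_center.2 (by rw [neg_one_sq])))

include hcard hlam in
/-- the classes 2 and 4 -/
theorem fix24 {Y : List ℕ} (hT : TorZ (ι lam ^ 2) (φ (h lam)) 40 (vecL 40 Y))
    (hv : 0 < 8 * orbF L24 0 + rsum (fun j => orbF L24 (2 * j)) Y) : ¬ NoFix (rK φ) := by
  classical
  have hch := charP3 hcard
  intro hfix
  have hval : ∀ b ≤ 80, b ≠ 0 → val (orbF L24) b + (if exc b = true then orbF L24 0 else 0) ≤ 0 := by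
    intro b hb hb0
    have h1 := all81 L24_check hb
    simp only [Bool.or_eq_true, beq_iff_eq, hb0, false_or, decide_eq_true_eq] at h1
    exact h1
  have h1 := press1 ι (rK φ) hcard hlam (orbF L24) (by decide) hval hfix
  rw [fun_rK hcard ι φ hlam hT _ (orbF_odd _)] at h1
  omega

include hcard hk hlam in
/-- the class 1 -/
theorem fix1 (hT : TorZ (ι lam ^ 2) (φ (h lam)) 40 (vecL 40 Y1)) : ¬ NoFix (rK φ) := by
  classical
  have hch := charP3 hcard
  have hneg := rK_neg φ hk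
  refine p_one ι (rK φ) hcard hlam (formB_inv φ) formB_nd hneg
    (fun X hX => Cfsg.Agent.H940.E8L.hecke ι (rK φ) hcard hneg hX) ?_ ?_ ?_
  · rw [fun_rK hcard ι φ hlam hT _ (orbF_odd _)]
    exact v1
  · rw [fun_rK hcard ι φ hlam hT _ (orbF_odd _)]
    exact v1g
  · have h1 := fun_rK hcard ι φ hlam hT ind4 (fun κ hκ => by
      unfold ind4
      rw [if_neg]
      omega)
    rw [v1i] at h1
    have hprim := Cfsg.Agent.H943.SL2Mod.primitive ι ι.injective hlam
    rw [show Fintype.card F - 1 = 80 by rw [hcard]] at hprim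
    have h2 : ι lam ^ (4 * 3 ^ 3) = ι lam ^ 28 := by
      rw [show 4 * 3 ^ 3 = 80 + 28 by norm_num, pow_add, hprim.pow_eq_one, one_mul]
    have h3 : ∑ κ ∈ Finset.range 80, ind4 κ * (Module.finrank KK (eig (rK φ) (h lam) (ι lam ^ κ)) : ℤ) =
        ∑ κ ∈ ({4, 12, 36, 28} : Finset ℕ), (Module.finrank KK (eig (rK φ) (h lam) (ι lam ^ κ)) : ℤ) := by
      rw [← Finset.sum_subset (s₁ := {4, 12, 36, 28})]
      · refine Finset.sum_congr rfl fun κ hκ => ?_
        have h4 : ind4 κ = 1 := by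
          unfold ind4
          rw [if_pos]
          simpa using hκ
        rw [h4, one_mul]
      · intro κ hκ
        simp only [Finset.mem_insert, Finset.mem_singleton] at hκ
        rw [Finset.mem_range]
        omega
      · intro κ _ hκ
        have h4 : ind4 κ = 0 := by
          unfold ind4
          rw [if_neg]
          simpa using hκ
        rw [h4, zero_mul]
    rw [h3] at h1
    rw [Finset.sum_insert (by decide), Finset.sum_insert (by decide), Finset.sum_insert (by decide),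
      Finset.sum_singleton] at h1
    rw [Finset.sum_range_succ, Finset.sum_range_succ, Finset.sum_range_succ, Finset.sum_range_one, h2,
      show 4 * 3 ^ 0 = 4 by norm_num, show 4 * 3 ^ 1 = 12 by norm_num, show 4 * 3 ^ 2 = 36 by norm_num]
    omega

end

/-- the third class -/
def FixThree : Prop := ∀ (F : Type) [Field F] [Fintype F] (_ : Fintype.card F = 81) (ι : F →+* KK)
  (φ : SpecialLinearGroup (Fin 2) F →* G8)
  (_ : ∀ g, φ g = 1 ↔ g ∈ Subgroup.center (SpecialLinearGroup (Fin 2) F))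
  (lam : Fˣ) (_ : ∀ x, x ∈ Subgroup.zpowers lam)
  (_ : TorZ (ι lam ^ 2) (φ (h lam)) 40 (vecL 40 Y3)), ¬ NoFix (rK φ)

/-- **FIX** -/
theorem fixStmt_of (h3 : FixThree) : FixStmt := by
  intro F _ _ hcard ι φ hk lam hlam Y hY hT
  refine descend φ ?_
  simp only [List.mem_cons, List.not_mem_nil, or_false] at hY
  rcases hY with rfl | rfl | rfl | rfl
  · exact fix1 hcard ι φ hk lam hlam hT
  · exact fix24 hcard ι φ lam hlam hT (by rw [v2]; norm_num)
  · exact h3 F hcard ι φ hk lam hlam hT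
  · exact fix24 hcard ι φ lam hlam hT (by rw [v4]; norm_num)

end Cfsg.Agent.H525.E8L
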