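import Cfsg.Agent.H525.E8L.Ext
import Cfsg.Agent.H525.E8L.Iface
import Cfsg.Agent.H943.Cert

/-!
# The elements of order 41 (S5921): interface
-/

set_option autoImplicit false

namespace Cfsg.Agent.H525.E8L

open Matrix Cfsg.Lie Cfsg.Agent.H943.SL2Rel Cfsg.Agent.H943.RepAdd Cfsg.Agent.H944.RootVals
open Cfsg.Agent.H943.SL2Mod (rb)

/-- the weights of an element of order 41 on `V_b`, `b` even: `η ^ (m - b / 2)` for the exponents `m` -/
def wt41 (b m : ℕ) : ℕ := (m + 40 * (b / 2)) % 41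

/-- `c` has order 41 and the eigenvalues on the `V_b` are the expected ones -/
structure Non41 {F : Type} [Field F] [Fintype F] [DecidableEq F] [CharP F 3] {k : Type} [Field k] [DecidableEq k]
    [CharP k 3] (ι : F →+* k) (hF : Fintype.card F = 81) (c : SpecialLinearGroup (Fin 2) F) (η : k) : Prop where
  pow : c ^ 41 = 1
  prim : IsPrimitiveRoot η 41
  dims : ∀ (b : ℕ) (hb : b ≤ Fintype.card F - 1) (_ : Even b) (κ : ℕ) (_ : κ < 41),
    haveI : Fact (Nat.Prime 3) := ⟨Nat.prime_three⟩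
    Module.finrank k (eig (rb ι 3 (odd_of hF) hb) c (η ^ κ)) =
      ((Cfsg.Agent.H943.Cert.digs 4 b).filter fun m => wt41 b m = κ).length

/-- NONSPLIT: there is such an element. -/
def NonSplitStmt : Prop := ∀ (F : Type) [Field F] [Fintype F] [DecidableEq F] [CharP F 3] (k : Type) [Field k]
  [DecidableEq k] [IsAlgClosed k] [CharP k 3] (ι : F →+* k) (hF : Fintype.card F = 81),
  ∃ (c : SpecialLinearGroup (Fin 2) F) (η : k), Non41 ι hF c η

/-- ENUM41: no class of elements of order 41 with these multiplicities of the values of the roots. -/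
def Enum41Stmt : Prop := ∀ (v : Fin 8 → ZMod 41) (_ : ms chevE8 8 v = (ms chevE8 8 v).map (fun a => 3 * a)),
  ¬ ((ms chevE8 8 v).count 0 = 8 ∧ (ms chevE8 8 v).count 1 = 9 ∧ (ms chevE8 8 v).count 2 = 6 ∧
    (ms chevE8 8 v).count 4 = 6 ∧ (ms chevE8 8 v).count 7 = 2 ∧ (ms chevE8 8 v).count 8 = 6)

end Cfsg.Agent.H525.E8L
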