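import Cfsg.Agent.H525.E8L.Prs
import Cfsg.Agent.H940.E8L.Rank

/-!
# The first class for `SL(2, 81)` (helper525, S5921)

Modules all of whose composition factors are `V_b`, `b` in `[0, 2, 4, 6, 10, 12, 18, 28, 30, 36, 40, 54]`.
-/

set_option autoImplicit false
set_option linter.unusedSectionVars false
set_option maxRecDepth 100000

namespace Cfsg.Agent.H525.E8L

open Matrix Cfsg.Agent.H943.SL2Rel Cfsg.Agent.H943.RepAdd Cfsg.Agent.H940.E8L
open Cfsg.Agent.H943.SL2Mod hiding Inv finrank_eig_iso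

/-! ### the tables -/

/-- the functional -/
def L1 : List ℤ := [0, 0, 0, 1, -1, 2, 3, -2, -12]

/-- the composition factors -/
def allow (b : ℕ) : Bool := [0, 2, 4, 6, 10, 12, 18, 28, 30, 36, 40, 54].contains b

/-- the functional for the dimension of `A0` -/
def Lg : List ℤ := [2, -1, 1, 0, 0, 0, 0, 0, 0]

theorem L1_nonneg : ((List.range 81).all fun b => decide (0 ≤ val (orbF L1) b)) = true := by decide +kernel

theorem L1_zero : ((List.range 81).all fun b => b % 2 == 1 || (allow b || decide (val (orbF L1) b ≠ 0))) = true := by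
  decide +kernel

theorem Lg_check : ((List.range 81).all fun b => !allow b || decide (val (orbF Lg) b ≤ if b = 0 then 2 else 0)) =
    true := by decide +kernel

theorem wt_check : ((List.range 81).all fun b => !allow b || (b == 0 || (Cfsg.Agent.H943.Cert.digs 4 b).all fun m =>
    (wtOf 80 b m != 0) || (2 * m == b && m % 2 == 1))) = true := by decide +kernel

theorem all81 {P : ℕ → Bool} (h : (List.range 81).all P = true) {b : ℕ} (hb : b ≤ 80) : P b = true :=
  List.all_eq_true.1 h b (List.mem_range.2 (by omega))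

section Gen

variable {F : Type} [Field F] [Fintype F] [DecidableEq F] [CharP F 3] {k : Type} [Field k] [DecidableEq k]
  [IsAlgClosed k] [CharP k 3] (ι : F →+* k)

/-! ### the fixed vectors of the normaliser of the torus on `V_b` -/

/-- the coordinates of a vector of weight zero -/
theorem A0_Vb (hF : Fintype.card F = 81) {b : ℕ} (hb : b ≤ Fintype.card F - 1) (hal : allow b = true) (hb0 : b ≠ 0)
    {Y : Vb ι b} (hY : Y ∈ A0 (rb ι 3 (odd_of hF) hb)) : Y = 0 := by
  have hfac : Fact (Nat.Prime 3) := ⟨Nat.prime_three⟩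
  have hq : Fintype.card F - 1 = 80 := by rw [hF]
  obtain ⟨lam, hlam⟩ := IsCyclic.exists_generator (α := Fˣ)
  have hprim := primitive ι ι.injective hlam
  rw [hq] at hprim
  have h2 : (2 : k) ≠ 0 := by
    have h3 : ((2 : ℕ) : k) ≠ 0 := by rw [Ne, CharP.cast_eq_zero_iff k 3]; norm_num
    exact_mod_cast h3
  obtain ⟨e, he⟩ := exists_coord ι 3 ι.injective (odd_of hF) hb
  obtain ⟨x, rfl⟩ := e.surjective Y
  obtain ⟨hh1, hw1⟩ := hY
  -- the coordinates
  have hc : ∀ m : Bf k b, x m ≠ 0 → 2 * (m : ℕ) = b ∧ (m : ℕ) % 2 = 1 := by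
    intro m hm
    have h3 : e (fun m : Bf k b => (ι lam ^ (m : ℕ) * (ι lam)⁻¹ ^ (b - m)) * x m) = e x := by
      rw [← hh1 lam]
      apply Subtype.ext
      show _ = fRep k F (h lam) ((e x : Vb ι b) : F × F → k)
      rw [he, he, map_sum]
      refine Finset.sum_congr rfl fun m _ => ?_
      rw [map_smul, h_mon, smul_smul, mul_comm]
    have h4 := congrFun (e.injective h3) m
    have h5 : ι lam ^ (m : ℕ) * (ι lam)⁻¹ ^ (b - m) = 1 := by
      have h6 : (ι lam ^ (m : ℕ) * (ι lam)⁻¹ ^ (b - m)) * x m = 1 * x m := by rw [one_mul]; exact h4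
      exact mul_right_cancel₀ hm h6
    have h6 : wtOf 80 b m = 0 := by
      have h7 : ι lam ^ (m : ℕ) * (ι lam)⁻¹ ^ (b - m) = ι lam ^ ((m : ℕ) + (80 - 1) * (b - m)) := by
        have h8 : (ι lam : k)⁻¹ = ι lam ^ (80 - 1) := by
          apply inv_eq_of_mul_eq_one_left
          rw [← pow_succ]
          exact hprim.pow_eq_one
        rw [h8, ← pow_mul, ← pow_add]
      rw [h7] at h5
      have h8 := hprim.dvd_of_pow_eq_one _ h5
      unfold wtOf
      exact Nat.mod_eq_zero_of_dvd h8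
    have h7 := all81 wt_check (b := b) (by omega)
    have hmd : (m : ℕ) ∈ Cfsg.Agent.H943.Cert.digs 4 b := by
      have h8 : ∀ m ∈ Bf k b, m ∈ Cfsg.Agent.H943.Cert.digs 4 b := fun m hm => by
        rw [Cfsg.Agent.H943.Cert.Bf_eq (n := 4) (by norm_num; omega), List.mem_toFinset] at hm
        exact hm
      exact h8 _ m.2
    simp only [hal, Bool.not_true, Bool.false_or, Bool.or_eq_true, beq_iff_eq, List.all_eq_true, bne_iff_ne,
      Bool.and_eq_true] at h7
    rcases h7 with h7 | h7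
    · exact absurd h7 hb0
    · rcases h7 _ hmd with h8 | h8
      · exact absurd h6 h8
      · exact h8
  -- the action of `w`
  have hx0 : x = 0 := by
    funext m
    by_contra hm
    obtain ⟨h3, h4⟩ := hc m hm
    have hex : (e x : F × F → k) = x m • mon ι b m := by
      rw [he, Finset.sum_eq_single m]
      · intro m' _ hne
        by_cases hm' : x m' = 0
        · rw [hm', zero_smul]
        · obtain ⟨h5, -⟩ := hc m' hm'
          exact absurd (Subtype.ext (by omega)) hne
      · exact fun h5 => absurd (Finset.mem_univ _) h5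
    have h5 := congrArg Subtype.val hw1
    have h6 : fRep k F w (e x : F × F → k) = (e x : F × F → k) := h5
    rw [hex, map_smul] at h6
    have h7 := congrFun h6 (1, 1)
    have h8 : x m * fRep k F w (mon ι b m) (1, 1) = x m * mon ι b m (1, 1) := h7
    have h9 : mon ι b m ((1 : F), (1 : F)) = 1 := by
      unfold mon
      rw [map_one, one_pow, one_pow, one_mul]
    have h10 : fRep k F w (mon ι b m) ((1 : F), (1 : F)) = -1 := by
      show ι (1 * (w : SpecialLinearGroup (Fin 2) F).1 0 0 + 1 * (w : SpecialLinearGroup (Fin 2) F).1 1 0) ^ (m : ℕ) *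
        ι (1 * (w : SpecialLinearGroup (Fin 2) F).1 0 1 + 1 * (w : SpecialLinearGroup (Fin 2) F).1 1 1) ^ (b - m) = -1
      have h11 : (w : SpecialLinearGroup (Fin 2) F).1 = !![0, 1; -1, 0] := rfl
      rw [h11]
      simp only [Matrix.of_apply, Matrix.cons_val_zero, Matrix.cons_val_one, Matrix.cons_val', Matrix.cons_val_fin_one,
        one_mul, zero_add, add_zero, map_neg, map_one, one_pow, mul_one]
      exact (Nat.odd_iff.2 h4).neg_one_pow
    rw [h9, h10, mul_one, mul_neg_one] at h8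
    apply hm
    have h11 : (2 : k) * x m = 0 := by linear_combination -h8
    exact (mul_eq_zero.1 h11).resolve_left h2
  rw [hx0, map_zero]

variable {lam : Fˣ} {V : Type} [AddCommGroup V] [Module k V] [FiniteDimensional k V]
  (ρ : Representation k (SpecialLinearGroup (Fin 2) F) V) {W : Submodule k V}

theorem A0_W (hF : Fintype.card F = 81) (hW : Inv ρ W) {b : ℕ} (hb : b ≤ Fintype.card F - 1) (φ : Vb ι b ≃ₗ[k] W)
    (hφ : ∀ g x, φ (rb ι 3 (odd_of hF) hb g x) = subRep ρ W hW g (φ x)) (hal : allow b = true) (hb0 : b ≠ 0)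
    {X : V} (hXW : X ∈ W) (hX : X ∈ A0 ρ) : X = 0 := by
  obtain ⟨Y, hY⟩ := φ.surjective ⟨X, hXW⟩
  have h1 : Y ∈ A0 (rb ι 3 (odd_of hF) hb) := by
    refine ⟨fun a => φ.injective ?_, φ.injective ?_⟩
    · rw [hφ, hY]
      exact Subtype.ext (hX.1 a)
    · rw [hφ, hY]
      exact Subtype.ext hX.2
  have h2 := A0_Vb ι hF hb hal hb0 h1
  rw [h2, map_zero] at hY
  exact (congrArg Subtype.val hY).symm

theorem V0_triv (hF : Fintype.card F = 81) (hW : Inv ρ W) (hb : 0 ≤ Fintype.card F - 1) (φ : Vb ι 0 ≃ₗ[k] W)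
    (hφ : ∀ g x, φ (rb ι 3 (odd_of hF) hb g x) = subRep ρ W hW g (φ x)) {x : V} (hx : x ∈ W)
    (g : SpecialLinearGroup (Fin 2) F) : ρ g x = x := by
  obtain ⟨f, hf⟩ := φ.surjective ⟨x, hx⟩
  have h3 := hφ g f
  have h4 : rb ι 3 (odd_of hF) hb g f = f := by
    apply Subtype.ext
    show fRep k F g (f : F × F → k) = (f : F × F → k)
    have h5 : ∀ f' ∈ Submodule.span k (mon ι 0 '' Bb k 0), fRep k F g f' = f' := by
      intro f' hf'
      induction hf' using Submodule.span_induction with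
      | mem g' hg =>
        obtain ⟨m, hm, rfl⟩ := hg
        have hm0 : m = 0 := Nat.le_zero.1 hm.1
        subst hm0
        funext z
        show mon ι 0 0 _ = mon ι 0 0 z
        unfold mon
        simp
      | zero => rw [map_zero]
      | add a c _ _ ha hc => rw [map_add, ha, hc]
      | smul a c _ hc => rw [map_smul, hc]
    exact h5 _ (Vb_le ι 0 f.2)
  rw [h4, hf] at h3
  exact (congrArg Subtype.val h3).symm

/-! ### the induction -/

theorem psi_nonneg (hF : Fintype.card F = 81) (hlam : ∀ x, x ∈ Subgroup.zpowers lam) (n : ℕ) :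
    ∀ {V : Type} [AddCommGroup V] [Module k V] [FiniteDimensional k V]
      (ρ : Representation k (SpecialLinearGroup (Fin 2) F) V), Module.finrank k V = n →
      0 ≤ (PF ι lam hF (orbF L1)).psi ρ := by
  induction n using Nat.strong_induction_on with
  | _ n ih =>
  intro V _ _ _ ρ hn
  rcases subsingleton_or_nontrivial V with hV | hV
  · rw [PF_eq]
    refine Finset.sum_nonneg fun κ _ => ?_
    rw [Module.finrank_zero_of_subsingleton, Nat.cast_zero, mul_zero]
  · obtain ⟨W, hW, hW0, hmin⟩ := exists_irr_sub ρ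
    obtain ⟨b, hb, φ, hφ⟩ := irr_Vb ι ρ hF hW ⟨hW0, hmin⟩
    have h1 := PF_irr ι ρ hF hlam (orbF L1) hW hb φ hφ
    have h2 := all81 L1_nonneg (b := b) (by omega)
    have h3 : Module.finrank k (V ⧸ W) < n := by
      have h4 := Submodule.finrank_quotient_add_finrank W
      have h5 : Module.finrank k W ≠ 0 := fun h => hW0 (Submodule.finrank_eq_zero.1 h)
      omega
    have h4 := ih _ h3 (quotRep ρ W hW) rfl
    have h5 := (PF ι lam hF (orbF L1)).add ρ W hW
    have h6 := of_decide_eq_true h2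
    rw [h5, h1]
    omega

/-- the class of modules -/
structure OK (lam : Fˣ) (hF : Fintype.card F = 81) (ρ : Representation k (SpecialLinearGroup (Fin 2) F) V) : Prop where
  neg : ρ (h (-1)) = 1
  psi : (PF ι lam hF (orbF L1)).psi ρ = 0

theorem step (hF : Fintype.card F = 81) (hlam : ∀ x, x ∈ Subgroup.zpowers lam) [Nontrivial V] (hρ : OK ι lam hF ρ) :
    ∃ (W : Submodule k V) (hW : Inv ρ W) (b : ℕ) (hb : b ≤ Fintype.card F - 1) (φ : Vb ι b ≃ₗ[k] W),
      (∀ g x, φ (rb ι 3 (odd_of hF) hb g x) = subRep ρ W hW g (φ x)) ∧ allow b = true ∧ W ≠ ⊥ ∧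
      OK ι lam hF (quotRep ρ W hW) := by
  have hfac : Fact (Nat.Prime 3) := ⟨Nat.prime_three⟩
  obtain ⟨W, hW, hW0, hmin⟩ := exists_irr_sub ρ
  obtain ⟨b, hb, φ, hφ⟩ := irr_Vb ι ρ hF hW ⟨hW0, hmin⟩
  have h1 := PF_irr ι ρ hF hlam (orbF L1) hW hb φ hφ
  have h2 := of_decide_eq_true (all81 L1_nonneg (b := b) (by omega))
  have h4 := psi_nonneg ι hF hlam _ (quotRep ρ W hW) rfl
  have h5 := (PF ι lam hF (orbF L1)).add ρ W hW
  have h6 := hρ.psi
  have e1 : subRep ρ W hW (h (-1)) = 1 := by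
    refine LinearMap.ext fun x => Subtype.ext ?_
    rw [coe_subRep, hρ.neg]
    rfl
  have hev : Even b := by
    apply even_of_h_neg_one ι 3 (by norm_num) (odd_of hF) hb
    refine LinearMap.ext fun x => φ.injective ?_
    rw [hφ, e1]
    rfl
  refine ⟨W, hW, b, hb, φ, hφ, ?_, hW0, ?_, ?_⟩
  · have h7 := all81 L1_zero (b := b) (by omega)
    have h8 : val (orbF L1) b = 0 := by omega
    have h9 : b % 2 = 0 := Nat.even_iff.1 hev
    simpa [h8, h9] using h7
  · refine LinearMap.ext fun x => ?_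
    obtain ⟨y, rfl⟩ := W.mkQ_surjective x
    rw [quotRep_mk, hρ.neg]
    rfl
  · omega

theorem quot_lt (hW0 : W ≠ ⊥) : Module.finrank k (V ⧸ W) < Module.finrank k V := by
  have h4 := Submodule.finrank_quotient_add_finrank W
  have h5 : Module.finrank k W ≠ 0 := fun h => hW0 (Submodule.finrank_eq_zero.1 h)
  omega

theorem A0_quot (hW : Inv ρ W) {X : V} (hX : X ∈ A0 ρ) : W.mkQ X ∈ A0 (quotRep ρ W hW) := by
  refine ⟨fun a => ?_, ?_⟩
  · rw [quotRep_mk, hX.1]
  · rw [quotRep_mk, hX.2]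

theorem E2_quot (hW : Inv ρ W) (i : ℕ) (X : V) : E2 ι (quotRep ρ W hW) i (W.mkQ X) = W.mkQ (E2 ι ρ i X) := by
  rw [E2_apply, E2_apply, map_sum]
  refine Finset.sum_congr rfl fun t _ => ?_
  rw [quotRep_mk, map_smul]

theorem Om_quot (hW : Inv ρ W) (X : V) : Om ι (quotRep ρ W hW) (W.mkQ X) = W.mkQ (Om ι ρ X) := by
  rw [Om_apply, Om_apply, map_sum]
  refine Finset.sum_congr rfl fun i _ => ?_
  rw [E2_quot, quotRep_mk, E2_quot, quotRep_mk]

theorem Ot_quot (hW : Inv ρ W) (X : V) : Ot ι (quotRep ρ W hW) (W.mkQ X) = W.mkQ (Ot ι ρ X) := by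
  rw [Ot_apply, Ot_apply, Om_quot, quotRep_mk, map_neg, map_add]

/-- **(N)** -/
theorem no_neg_one (hF : Fintype.card F = 81) (hlam : ∀ x, x ∈ Subgroup.zpowers lam) (n : ℕ) :
    ∀ {V : Type} [AddCommGroup V] [Module k V] [FiniteDimensional k V]
      (ρ : Representation k (SpecialLinearGroup (Fin 2) F) V), Module.finrank k V = n → OK ι lam hF ρ →
      ∀ X ∈ A0 ρ, Ot ι ρ X = -X → X = 0 := by
  induction n using Nat.strong_induction_on with
  | _ n ih =>
  intro V _ _ _ ρ hn hρ X hX hO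
  rcases subsingleton_or_nontrivial V with hV | hV
  · exact Subsingleton.elim _ _
  · obtain ⟨W, hW, b, hb, φ, hφ, hal, hW0, hq⟩ := step ι ρ hF hlam hρ
    have h1 : W.mkQ X = 0 := by
      refine ih _ (hn ▸ quot_lt hW0) (quotRep ρ W hW) rfl hq _ (A0_quot ρ hW hX) ?_
      rw [Ot_quot, hO, map_neg]
    rw [Submodule.mkQ_apply, Submodule.Quotient.mk_eq_zero] at h1
    by_cases hb0 : b = 0
    · subst hb0
      have h2 : ∀ i ∈ Finset.range 4, E2 ι ρ i X = 0 := by
        intro i hi
        have hi' := Finset.mem_range.1 hi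
        have hle := le80 hi'
        rw [E2_apply, Finset.sum_congr rfl fun t _ => by rw [V0_triv ι ρ hF hW hb φ hφ h1 (u t)], ← Finset.sum_smul,
          psum ι hF (by omega), if_neg, zero_smul]
        have : 0 < 3 ^ i := pow_pos (by norm_num) i
        omega
      have h3 : Om ι ρ X = 0 := by
        rw [Om_apply]
        refine Finset.sum_eq_zero fun i hi => ?_
        rw [h2 i hi, map_zero, map_zero, map_zero]
      rw [Ot_apply, h3, map_zero, add_zero, neg_zero] at hO
      exact (neg_eq_zero.1 hO.symm)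
    · exact A0_W ι ρ hF hW hb φ hφ hal hb0 h1 hX

/-- **(T)** -/
theorem theta (hF : Fintype.card F = 81) (hlam : ∀ x, x ∈ Subgroup.zpowers lam) (n : ℕ) :
    ∀ {V : Type} [AddCommGroup V] [Module k V] [FiniteDimensional k V]
      (ρ : Representation k (SpecialLinearGroup (Fin 2) F) V), Module.finrank k V = n → OK ι lam hF ρ →
      ∀ X ∈ A0 ρ, (∀ i < 4, E2 ι ρ i X = 0) → ∀ g, ρ g X = X := by
  induction n using Nat.strong_induction_on with
  | _ n ih =>
  intro V _ _ _ ρ hn hρ X hX hE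
  rcases subsingleton_or_nontrivial V with hV | hV
  · exact fun g => Subsingleton.elim _ _
  · obtain ⟨W, hW, b, hb, φ, hφ, hal, hW0, hq⟩ := step ι ρ hF hlam hρ
    have h1 : ∀ g, ρ g X - X ∈ W := by
      intro g
      have h2 := ih _ (hn ▸ quot_lt hW0) (quotRep ρ W hW) rfl hq _ (A0_quot ρ hW hX) (fun i hi => by
        rw [E2_quot, hE i hi, map_zero]) g
      rw [quotRep_mk, ← sub_eq_zero, ← map_sub, Submodule.mkQ_apply, Submodule.Quotient.mk_eq_zero] at h2
      exact h2
    by_cases hb0 : b = 0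
    · subst hb0
      have h2 : W ≤ fixMod ρ ⊥ := by
        intro x hx g
        rw [V0_triv ι ρ hF hW hb φ hφ hx g, sub_self]
        exact Submodule.zero_mem _
      have h3 : X ∈ fixMod ρ (fixMod ρ ⊥) := fun g => h2 (h1 g)
      have hbot : Inv ρ (⊥ : Submodule k V) := by
        intro g y hy
        rw [Submodule.mem_bot] at hy ⊢
        rw [hy, map_zero]
      rw [fixMod_fixMod ρ (perfect81 hF) hbot] at h3
      intro g
      have h4 := h3 g
      rwa [Submodule.mem_bot, sub_eq_zero] at h4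
    · -- the section
      have hEi : Inv ρ (fixMod ρ W) := inv_of_between ρ (le_fixMod ρ hW) le_rfl
      have hWE := le_fixMod ρ hW
      set E := fixMod ρ W with hEdef
      let W' : Submodule k E := W.comap E.subtype
      have hW' : Inv (subRep ρ E hEi) W' := fun g x hx => hW g x hx
      let e : W ≃ₗ[k] W' := (Submodule.comapSubtypeEquivOfLe hWE).symm
      have hev : Even b := by
        have h5 : ∀ b, allow b = true → b % 2 = 0 := by
          intro b h
          unfold allow at h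
          simp only [List.contains_eq_mem, List.mem_cons, List.not_mem_nil, or_false, decide_eq_true_eq] at h
          omega
        exact Nat.even_iff.2 (h5 b hal)
      obtain ⟨z, hzW, hz0, hzD, hz⟩ := ext_main ι (subRep ρ E hEi) W' hW' hF hb hev (φ.trans e) (fun g x => by
        apply Subtype.ext
        apply Subtype.ext
        show ((φ (rb ι 3 (odd_of hF) hb g x) : W) : V) = ρ g (φ x : V)
        rw [hφ]
        rfl) (fun g x => x.2 g)
      let x : E := ⟨X, h1⟩
      have hzx : z x = 0 := by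
        by_cases hex : ∃ n, isExc b n = true
        · obtain ⟨n, hn⟩ := hex
          refine hzD n hn x ?_
          obtain ⟨i, hi, rfl⟩ : ∃ i < 4, n = 2 * 3 ^ i := by
            unfold isExc at hn
            simp only [Bool.or_eq_true, Bool.and_eq_true, beq_iff_eq] at hn
            rcases hn with ((⟨-, rfl⟩ | ⟨-, rfl⟩) | ⟨-, rfl⟩) | ⟨-, rfl⟩
            · exact ⟨0, by norm_num, by norm_num⟩
            · exact ⟨1, by norm_num, by norm_num⟩
            · exact ⟨2, by norm_num, by norm_num⟩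
            · exact ⟨3, by norm_num, by norm_num⟩
          apply Subtype.ext
          have h5 := hE i hi
          rw [E2_apply] at h5
          rw [Dm_apply]
          push_cast
          show -∑ t : F, ι t ^ (80 - 2 * 3 ^ i) • ρ (u t) X = 0
          rw [h5, neg_zero]
        · push Not at hex
          rw [hz0 fun n => Bool.eq_false_iff.2 (hex n), LinearMap.zero_apply]
      obtain ⟨x', h5, h6⟩ := hz x hzx
      have h7 : ∀ g, ρ g (x' : V) = x' := fun g => congrArg Subtype.val (h5 g)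
      have h8 : (x' : V) - X ∈ W := h6
      have h9 : (x' : V) - X = 0 := by
        refine A0_W ι ρ hF hW hb φ hφ hal hb0 h8 ?_
        exact (A0 ρ).sub_mem ⟨fun a => h7 _, h7 _⟩ hX
      intro g
      rw [← sub_eq_zero.1 h9, h7]

/-- the average -/
def av (X : V) : V := ∑ a : Fˣ, ρ (h a) (X + ρ w X)

theorem card_units_cast (hF : Fintype.card F = 81) : (Fintype.card Fˣ : k) = -1 := by
  rw [Fintype.card_units, hF]
  have h3 : ((3 : ℕ) : k) = 0 := CharP.cast_eq_zero k 3
  have h4 : ((81 - 1 : ℕ) : k) = (27 : k) * ((3 : ℕ) : k) - 1 := by norm_num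
  rw [h4, h3]
  ring

theorem av_mem (hneg : ρ (h (-1)) = 1) (X : V) : av ρ X ∈ A0 ρ := by
  unfold av
  refine ⟨fun c => ?_, ?_⟩
  · rw [map_sum]
    refine Fintype.sum_equiv (Equiv.mulLeft c) _ _ fun a => ?_
    rw [apply_mul, ← h_mul]
    rfl
  · rw [map_sum]
    refine Fintype.sum_equiv (Equiv.inv Fˣ) _ _ fun a => ?_
    have h1 : ρ w (ρ (h a) (X + ρ w X)) = ρ (h a⁻¹) (ρ w (X + ρ w X)) := by
      rw [apply_mul, apply_mul, h_w, inv_inv]
    have h2 : ρ w (X + ρ w X) = X + ρ w X := by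
      rw [map_add, ww, hneg, Module.End.one_apply, add_comm]
    rw [h1, h2]
    rfl

theorem av_quot (hF : Fintype.card F = 81) (hW : Inv ρ W) {X : V} (hX : W.mkQ X ∈ A0 (quotRep ρ W hW)) :
    W.mkQ (av ρ X) = W.mkQ X := by
  unfold av
  have h1 : ∀ a : Fˣ, W.mkQ (ρ (h a) (X + ρ w X)) = W.mkQ X + W.mkQ X := by
    intro a
    rw [← quotRep_mk ρ W hW, map_add, ← quotRep_mk ρ W hW w, hX.2, map_add, hX.1]
  rw [map_sum, Finset.sum_congr rfl fun a _ => h1 a, Finset.sum_const, Finset.card_univ, ← Nat.cast_smul_eq_nsmul k,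
    card_units_cast hF]
  have h3 : (3 : k) = 0 := by exact_mod_cast CharP.cast_eq_zero k 3
  rw [← two_smul k (W.mkQ X), smul_smul]
  have h4 : (-1 : k) * 2 = 1 := by linear_combination -h3
  rw [h4, one_smul]

/-- **(D)** -/
theorem dim_A0 (hF : Fintype.card F = 81) (hlam : ∀ x, x ∈ Subgroup.zpowers lam) (n : ℕ) :
    ∀ {V : Type} [AddCommGroup V] [Module k V] [FiniteDimensional k V]
      (ρ : Representation k (SpecialLinearGroup (Fin 2) F) V), Module.finrank k V = n → OK ι lam hF ρ →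
      (PF ι lam hF (orbF Lg)).psi ρ ≤ 2 * Module.finrank k (A0 ρ) := by
  induction n using Nat.strong_induction_on with
  | _ n ih =>
  intro V _ _ _ ρ hn hρ
  rcases subsingleton_or_nontrivial V with hV | hV
  · rw [PF_eq, Finset.sum_eq_zero]
    · positivity
    · intro κ _
      rw [Module.finrank_zero_of_subsingleton, Nat.cast_zero, mul_zero]
  · obtain ⟨W, hW, b, hb, φ, hφ, hal, hW0, hq⟩ := step ι ρ hF hlam hρ
    have h1 := ih _ (hn ▸ quot_lt hW0) (quotRep ρ W hW) rfl hq
    have h2 := PF_irr ι ρ hF hlam (orbF Lg) hW hb φ hφ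
    have h3 := (PF ι lam hF (orbF Lg)).add ρ W hW
    have h4 := all81 Lg_check (b := b) (by omega)
    rw [hal, Bool.not_true, Bool.false_or] at h4
    have h5 := of_decide_eq_true h4
    -- the map
    let f : A0 ρ →ₗ[k] A0 (quotRep ρ W hW) := (W.mkQ.domRestrict (A0 ρ)).codRestrict _ fun X => A0_quot ρ hW X.2
    have hf : Function.Surjective f := by
      rintro ⟨y, hy⟩
      obtain ⟨X, rfl⟩ := W.mkQ_surjective y
      exact ⟨⟨av ρ X, av_mem ρ hρ.neg X⟩, Subtype.ext (av_quot ρ hF hW hy)⟩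
    have h6 := LinearMap.finrank_range_add_finrank_ker f
    rw [LinearMap.range_eq_top.2 hf, finrank_top] at h6
    by_cases hb0 : b = 0
    · subst hb0
      have h7 : Module.finrank k (LinearMap.ker f) ≠ 0 := by
        intro h0
        obtain ⟨X, hX, hX0⟩ := Submodule.exists_mem_ne_zero_of_ne_bot hW0
        have h8 := Submodule.finrank_eq_zero.1 h0
        have h9 : (⟨X, ⟨fun a => V0_triv ι ρ hF hW hb φ hφ hX _, V0_triv ι ρ hF hW hb φ hφ hX _⟩⟩ : A0 ρ) ∈
            LinearMap.ker f := by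
          rw [LinearMap.mem_ker]
          apply Subtype.ext
          show W.mkQ X = 0
          rw [Submodule.mkQ_apply, Submodule.Quotient.mk_eq_zero]
          exact hX
        rw [h8, Submodule.mem_bot] at h9
        exact hX0 (congrArg Subtype.val h9)
      rw [if_pos rfl] at h5
      rw [h3, h2]
      omega
    · rw [if_neg hb0] at h5
      rw [h3, h2]
      omega

/-- **the first class** -/
theorem p_one (hF : Fintype.card F = 81) (hlam : ∀ x, x ∈ Subgroup.zpowers lam) {B : V →ₗ[k] V →ₗ[k] k}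
    (hB : ∀ g x y, B (ρ g x) (ρ g y) = B x y) (hnd : ∀ x, (∀ y, B x y = 0) → x = 0) (hneg : ρ (h (-1)) = 1)
    (hecke : ∀ X ∈ A0 ρ, Ot ι ρ (Ot ι ρ (Ot ι ρ (Ot ι ρ X + X))) = 0)
    (h1 : ∑ κ ∈ Finset.range 80, orbF L1 κ * (Module.finrank k (eig ρ (h lam) (ι lam ^ κ)) : ℤ) = 0)
    (h2 : ∑ κ ∈ Finset.range 80, orbF Lg κ * (Module.finrank k (eig ρ (h lam) (ι lam ^ κ)) : ℤ) = 56)
    (h3 : ∑ i ∈ Finset.range 4, Module.finrank k (eig ρ (h lam) (ι lam ^ (4 * 3 ^ i))) = 32) : ¬ NoFix ρ := by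
  intro hfix
  have hρ : OK ι lam hF ρ := ⟨hneg, by rw [PF_eq, h1]⟩
  have h4 := dim_A0 ι hF hlam _ ρ rfl hρ
  rw [PF_eq, h2] at h4
  have h5 := rank_le ι ρ hF hneg hB hnd (fun X hX => by
    refine no_neg_one ι hF hlam _ ρ rfl hρ _ (Ot_mem ι ρ hF hneg (Ot_mem ι ρ hF hneg (Ot_mem ι ρ hF hneg hX))) ?_
    have h6 := hecke X hX
    rw [map_add, map_add, map_add] at h6
    exact eq_neg_of_add_eq_zero_left h6)
    (fun X hX hE => hfix X (theta ι hF hlam _ ρ rfl hρ X hX hE)) lam
  rw [h3] at h5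
  omega

end Gen

end Cfsg.Agent.H525.E8L
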