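import Cfsg.Agent.H525.E8L.Ext
import Cfsg.Agent.H525.E8L.Iface
import Cfsg.Agent.H940.E8L.EigFun
import Cfsg.Agent.H943.Cert

/-!
# The pressure lemmas for `SL(2, 81)` (helper525, S5921)
-/

set_option autoImplicit false
set_option linter.unusedSectionVars false
set_option maxRecDepth 100000

namespace Cfsg.Agent.H525.E8L

open Matrix Cfsg.Agent.H943.SL2Rel Cfsg.Agent.H943.RepAdd Cfsg.Agent.H940.E8L
open Cfsg.Agent.H943.SL2Mod hiding Inv finrank_eig_iso

section Gen

variable {F : Type} [Field F] [Fintype F]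

theorem perfect81 (hF : Fintype.card F = 81) : commutator (SpecialLinearGroup (Fin 2) F) = ⊤ := by
  classical
  obtain ⟨x, hx0, hx1⟩ : ∃ x : F, x ≠ 0 ∧ x ^ 2 ≠ 1 := by
    have h1 : ({0, 1, -1} : Finset F).card < (Finset.univ : Finset F).card := by
      refine lt_of_le_of_lt Finset.card_le_three ?_
      rw [Finset.card_univ, hF]
      norm_num
    obtain ⟨x, -, hx⟩ := Finset.exists_mem_notMem_of_card_lt_card h1
    simp only [Finset.mem_insert, Finset.mem_singleton, not_or] at hx
    refine ⟨x, hx.1, fun h => ?_⟩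
    rw [pow_two] at h
    rcases mul_self_eq_one_iff.1 h with h | h
    · exact hx.2.1 h
    · exact hx.2.2 h
  exact SL2.commutator_eq_top hx0 hx1

variable [DecidableEq F] [CharP F 3] {k : Type} [Field k] [DecidableEq k] [IsAlgClosed k] [CharP k 3] (ι : F →+* k)
  {E : Type} [AddCommGroup E] [Module k E] [FiniteDimensional k E]
  (ρ : Representation k (SpecialLinearGroup (Fin 2) F) E) {W : Submodule k E}

include ι in
/-- irreducible submodules are `V_b` -/
theorem irr_Vb (hF : Fintype.card F = 81) (hW : Inv ρ W) (hI : IrrIn ρ W) :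
    ∃ (b : ℕ) (hb : b ≤ Fintype.card F - 1) (φ : Vb ι b ≃ₗ[k] W),
      ∀ g x, φ (rb ι 3 (odd_of hF) hb g x) = subRep ρ W hW g (φ x) := by
  have : Fact (Nat.Prime 3) := ⟨Nat.prime_three⟩
  have hIW : Irr (subRep ρ W hW) := by
    refine ⟨Submodule.nontrivial_iff_ne_bot.2 hI.1, fun W' hW' => ?_⟩
    rcases hI.2 (W'.map W.subtype) (Submodule.map_subtype_le _ _) (by
      rintro g _ ⟨x, hx, rfl⟩
      exact ⟨_, hW' g x hx, rfl⟩) with h1 | h1
    · left
      rw [eq_bot_iff]
      intro x hx
      have h2 : (x : E) ∈ W'.map W.subtype := ⟨x, hx, rfl⟩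
      rw [h1] at h2
      exact (Submodule.mem_bot k).2 (Subtype.ext ((Submodule.mem_bot k).1 h2))
    · right
      rw [eq_top_iff]
      intro x _
      have h2 : (x : E) ∈ W'.map W.subtype := by rw [h1]; exact x.2
      obtain ⟨y, hy, e⟩ := h2
      rwa [← Subtype.ext (p := fun z => z ∈ W) e]
  exact irr_iso ι 3 (subRep ρ W hW) ι.injective (odd_of hF) hIW

/-- the exceptional weights -/
def exc (b : ℕ) : Bool := b == 4 || b == 12 || b == 36 || b == 28

theorem isExc_exc {b n : ℕ} (h : isExc b n = true) : exc b = true := by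
  unfold isExc at h
  unfold exc
  simp only [Bool.or_eq_true, Bool.and_eq_true, beq_iff_eq] at h ⊢
  tauto

include ι in
/-- the size of `E / W` -/
theorem quot_le (hF : Fintype.card F = 81) (hW : Inv ρ W) (htr : TrivMod ρ W) (hfix : NoFix ρ) {b : ℕ}
    (hb : b ≤ Fintype.card F - 1) (φ : Vb ι b ≃ₗ[k] W)
    (hφ : ∀ g x, φ (rb ι 3 (odd_of hF) hb g x) = subRep ρ W hW g (φ x)) :
    Module.finrank k (E ⧸ W) ≤ if exc b = true then 1 else 0 := by
  have hfac : Fact (Nat.Prime 3) := ⟨Nat.prime_three⟩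
  have h2 : (2 : k) ≠ 0 := by
    have h3 : ((2 : ℕ) : k) ≠ 0 := by rw [Ne, CharP.cast_eq_zero_iff k 3]; norm_num
    exact_mod_cast h3
  have hzero : W = ⊤ → Module.finrank k (E ⧸ W) ≤ if exc b = true then 1 else 0 := by
    intro h
    have h1 := Submodule.finrank_quotient_add_finrank W
    have h3 : Module.finrank k W = Module.finrank k E := by rw [h, finrank_top]
    omega
  rcases Nat.even_or_odd b with hbe | hbo
  · obtain ⟨z, hzW, hz0, -, hz⟩ := ext_main ι ρ W hW hF hb hbe φ hφ htr
    have hker : ∀ x, z x = 0 → x ∈ W := by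
      intro x hx
      obtain ⟨x', h1, h3⟩ := hz x hx
      rw [hfix x' h1, zero_sub] at h3
      exact (Submodule.neg_mem_iff W).1 h3
    by_cases hex : exc b = true
    · rw [if_pos hex]
      have h1 : LinearMap.ker (W.liftQ z fun x hx => hzW x hx) = ⊥ := by
        rw [LinearMap.ker_eq_bot']
        intro y hy
        obtain ⟨x, rfl⟩ := W.mkQ_surjective y
        rw [Submodule.mkQ_apply, Submodule.Quotient.mk_eq_zero]
        exact hker x hy
      have h3 := LinearMap.finrank_le_finrank_of_injective (LinearMap.ker_eq_bot.1 h1)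
      rwa [Module.finrank_self] at h3
    · apply hzero
      rw [eq_top_iff]
      intro x _
      apply hker
      rw [hz0, LinearMap.zero_apply]
      intro n
      rw [Bool.eq_false_iff]
      exact fun h => hex (isExc_exc h)
  · -- `-1` acts as `-1` on `W`
    apply hzero
    rw [eq_top_iff]
    intro x _
    have hneg : ∀ y ∈ W, ρ (h (-1)) y = -y := by
      intro y hy
      obtain ⟨f, hf⟩ := φ.surjective ⟨y, hy⟩
      have h3 := hφ (h (-1)) f
      have h4 : rb ι 3 (odd_of hF) hb (h (-1)) f = -f := by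
        apply Subtype.ext
        show fRep k F (h (-1)) (f : F × F → k) = -(f : F × F → k)
        have h5 : ∀ g ∈ Submodule.span k (mon ι b '' Bb k b), fRep k F (h (-1)) g = -g := by
          intro g hg
          induction hg using Submodule.span_induction with
          | mem g hg =>
            obtain ⟨m, hm, rfl⟩ := hg
            rw [h_mon, Units.val_neg, Units.val_one, map_neg, map_one, inv_neg, inv_one, ← pow_add,
              show m + (b - m) = b by have := hm.1; omega, hbo.neg_one_pow, neg_one_smul]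
          | zero => rw [map_zero, neg_zero]
          | add a c _ _ ha hc => rw [map_add, ha, hc, neg_add]
          | smul a c _ hc => rw [map_smul, hc, smul_neg]
        exact h5 _ (Vb_le ι b f.2)
      rw [h4, hf] at h3
      have h6 := congrArg Subtype.val h3
      rw [map_neg, hf] at h6
      exact h6.symm
    have h3 := hneg _ (htr (h (-1)) x)
    rw [map_sub, hh] at h3
    have h4 : x + ρ (h (-1)) x = 0 := by
      apply hfix
      intro g
      have h5 := hneg _ (htr g x)
      have h6 : ρ g (ρ (h (-1)) x) = ρ (h (-1)) (ρ g x) := by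
        rw [apply_mul, apply_mul]
        rw [Subgroup.mem_center_iff.1 (Cfsg.Agent.H943.PSLHom.h_mem_center.2 (neg_one_sq (R := Fˣ))) g]
      rw [map_add, h6]
      rw [map_sub] at h5
      have h7 : ρ (h (-1)) (ρ g x) = ρ (h (-1)) x - (ρ g x - x) := by
        rw [sub_eq_iff_eq_add.1 h5]
        abel
      rw [h7]
      abel
    have h5 := htr (h (-1)) x
    have h6 : ρ (h (-1)) x = -x := by rw [eq_neg_iff_add_eq_zero, add_comm]; exact h4
    rw [h6] at h5
    have h7 : x = (-(2 : k))⁻¹ • (-x - x) := by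
      have h8 : -x - x = (-(2 : k)) • x := by rw [neg_smul, two_smul]; abel
      rw [h8, smul_smul, inv_mul_cancel₀ (neg_ne_zero.2 h2), one_smul]
    rw [h7]
    exact W.smul_mem _ h5

/-- the value of a functional on `V_b` -/
def val (f : ℕ → ℤ) (b : ℕ) : ℤ := ((Cfsg.Agent.H943.Cert.digs 4 b).map fun m => f (wtOf 80 b m)).sum

variable (lam : Fˣ)

theorem gen_pow (hF : Fintype.card F = 81) : lam ^ 80 = 1 := by
  have h1 := pow_card_eq_one (x := lam)
  rwa [Fintype.card_units, hF] at h1

theorem eighty_ne : ((80 : ℕ) : k) ≠ 0 := by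
  have : Fact (Nat.Prime 3) := ⟨Nat.prime_three⟩
  rw [Ne, CharP.cast_eq_zero_iff k 3]
  norm_num

/-- the additive function of a functional `f` on the weights -/
noncomputable def PF (hF : Fintype.card F = 81) (f : ℕ → ℤ) : AddFun.{0, 0, 0} k (SpecialLinearGroup (Fin 2) F) :=
  eigFun (Finset.range 80) f (fun _ => h lam) (fun _ => 80) (fun κ => ι lam ^ κ) 0
    (fun _ _ => by rw [← h_pow, gen_pow lam hF, h_one]) (fun _ _ => eighty_ne)
    (fun κ _ => by rw [← map_pow, ← map_pow, ← Units.val_pow_eq_pow_val, ← Units.val_pow_eq_pow_val, ← pow_mul, mul_comm,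
      pow_mul, gen_pow lam hF, one_pow, Units.val_one, map_one])
    (fun κ _ => pow_ne_zero _ ((map_ne_zero ι).2 lam.ne_zero))

variable {lam}

theorem PF_eq (hF : Fintype.card F = 81) (f : ℕ → ℤ) {V : Type} [AddCommGroup V] [Module k V]
    (ρ : Representation k (SpecialLinearGroup (Fin 2) F) V) : (PF ι lam hF f).psi ρ =
      ∑ κ ∈ Finset.range 80, f κ * (Module.finrank k (eig ρ (h lam) (ι lam ^ κ)) : ℤ) := by
  show 0 * (Module.finrank k V : ℤ) + _ = _
  rw [zero_mul, zero_add]

theorem PF_irr (hF : Fintype.card F = 81) (hlam : ∀ x, x ∈ Subgroup.zpowers lam) (f : ℕ → ℤ) (hW : Inv ρ W) {b : ℕ}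
    (hb : b ≤ Fintype.card F - 1) (φ : Vb ι b ≃ₗ[k] W)
    (hφ : ∀ g x, φ (rb ι 3 (odd_of hF) hb g x) = subRep ρ W hW g (φ x)) :
    (PF ι lam hF f).psi (subRep ρ W hW) = val f b := by
  have : Fact (Nat.Prime 3) := ⟨Nat.prime_three⟩
  have hq : Fintype.card F - 1 = 80 := by rw [hF]
  rw [PF_eq]
  have h1 := Phi_rb ι 3 ι.injective (odd_of hF) hlam f hb
  unfold Phi at h1
  rw [hq] at h1
  rw [Finset.sum_congr rfl fun κ _ => by rw [← Cfsg.Agent.H943.SL2Mod.finrank_eig_iso _ _ φ hφ], h1]
  have hb3 : b < 3 ^ 4 := by rw [hq] at hb; norm_num; omega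
  rw [Cfsg.Agent.H943.Cert.Bf_eq hb3, List.sum_toFinset _ (Cfsg.Agent.H943.Cert.nodup_digs 4 b)]
  rfl

theorem eig_triv {V : Type} [AddCommGroup V] [Module k V] [FiniteDimensional k V]
    (ρ : Representation k (SpecialLinearGroup (Fin 2) F) V) (h1 : ∀ g x, ρ g x = x)
    (g : SpecialLinearGroup (Fin 2) F) (μ : k) :
    Module.finrank k (eig ρ g μ) = if μ = 1 then Module.finrank k V else 0 := by
  split_ifs with hμ
  · have h2 : eig ρ g μ = ⊤ := by
      rw [eq_top_iff]
      intro x _
      rw [mem_eig, h1, hμ, one_smul]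
    rw [h2, finrank_top]
  · have h2 : eig ρ g μ = ⊥ := by
      rw [eq_bot_iff]
      intro x hx
      rw [mem_eig, h1] at hx
      have h3 : (1 - μ) • x = 0 := by rw [sub_smul, one_smul, ← hx, sub_self]
      rcases smul_eq_zero.1 h3 with h4 | h4
      · exact absurd (sub_eq_zero.1 h4).symm hμ
      · exact (Submodule.mem_bot k).2 h4
    rw [h2, finrank_bot]

theorem PF_triv (hF : Fintype.card F = 81) (hlam : ∀ x, x ∈ Subgroup.zpowers lam) (f : ℕ → ℤ)
    {V : Type} [AddCommGroup V] [Module k V] [FiniteDimensional k V]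
    (ρ : Representation k (SpecialLinearGroup (Fin 2) F) V) (h1 : ∀ g x, ρ g x = x) :
    (PF ι lam hF f).psi ρ = f 0 * Module.finrank k V := by
  have hprim := primitive ι ι.injective hlam
  rw [show Fintype.card F - 1 = 80 by rw [hF]] at hprim
  rw [PF_eq, Finset.sum_eq_single 0]
  · rw [eig_triv ρ h1, pow_zero, if_pos rfl]
  · intro κ hκ hκ0
    rw [eig_triv ρ h1, if_neg, Nat.cast_zero, mul_zero]
    intro h2
    have h3 := hprim.dvd_of_pow_eq_one κ h2
    have h4 := Nat.le_of_dvd (Nat.pos_of_ne_zero hκ0) h3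
    have := Finset.mem_range.1 hκ
    omega
  · intro h2
    exact absurd (Finset.mem_range.2 (by norm_num)) h2

include ι in
/-- `V_0` is trivial -/
theorem b_ne_zero (hF : Fintype.card F = 81) (hW : Inv ρ W) (hI : IrrIn ρ W) (hfix : NoFix ρ) {b : ℕ}
    (hb : b ≤ Fintype.card F - 1) (φ : Vb ι b ≃ₗ[k] W)
    (hφ : ∀ g x, φ (rb ι 3 (odd_of hF) hb g x) = subRep ρ W hW g (φ x)) : b ≠ 0 := by
  rintro rfl
  apply hI.1
  rw [eq_bot_iff]
  intro x hx
  rw [Submodule.mem_bot]
  apply hfix
  intro g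
  obtain ⟨f, hf⟩ := φ.surjective ⟨x, hx⟩
  have h3 := hφ g f
  have h4 : rb ι 3 (odd_of hF) hb g f = f := by
    apply Subtype.ext
    show fRep k F g (f : F × F → k) = (f : F × F → k)
    have h5 : ∀ f' ∈ Submodule.span k (mon ι 0 '' Bb k 0), fRep k F g f' = f' := by
      intro f' hf'
      induction hf' using Submodule.span_induction with
      | mem g' hg =>
        obtain ⟨m, hm, rfl⟩ := hg
        have hm0 : m = 0 := Nat.le_zero.1 hm.1
        subst hm0
        funext z
        show mon ι 0 0 _ = mon ι 0 0 z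
        unfold mon
        simp
      | zero => rw [map_zero]
      | add a c _ _ ha hc => rw [map_add, ha, hc]
      | smul a c _ hc => rw [map_smul, hc]
    exact h5 _ (Vb_le ι 0 f.2)
  rw [h4, hf] at h3
  exact (congrArg Subtype.val h3).symm

/-- the hypothesis of the pressure lemma -/
theorem hE81 (hF : Fintype.card F = 81) (hlam : ∀ x, x ∈ Subgroup.zpowers lam) (f : ℕ → ℤ) {D : ℤ} (hD : 0 ≤ D)
    (hval : ∀ b ≤ 80, b ≠ 0 → val f b + (if exc b = true then D else 0) ≤ 0)
    (hW : Inv ρ W) (hI : IrrIn ρ W) (htr : TrivMod ρ W) (hfix : NoFix ρ) :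
    (PF ι lam hF f).psi (subRep ρ W hW) + D * Module.finrank k (E ⧸ W) ≤ 0 := by
  obtain ⟨b, hb, φ, hφ⟩ := irr_Vb ι ρ hF hW hI
  have h0 := b_ne_zero ι ρ hF hW hI hfix hb φ hφ
  have h1 := quot_le ι ρ hF hW htr hfix hb φ hφ
  rw [PF_irr ι ρ hF hlam f hW hb φ hφ]
  have hq : Fintype.card F - 1 = 80 := by rw [hF]
  have h2 := hval b (by omega) h0
  split_ifs at h1 h2 with h3
  · have h4 : (Module.finrank k (E ⧸ W) : ℤ) ≤ 1 := by exact_mod_cast h1
    nlinarith
  · have h4 : Module.finrank k (E ⧸ W) = 0 := Nat.le_zero.1 h1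
    rw [h4, Nat.cast_zero, mul_zero]
    exact h2

/-- **pressure (1)** -/
theorem press1 (hF : Fintype.card F = 81) (hlam : ∀ x, x ∈ Subgroup.zpowers lam) (f : ℕ → ℤ) (hD : 0 ≤ f 0)
    (hval : ∀ b ≤ 80, b ≠ 0 → val f b + (if exc b = true then f 0 else 0) ≤ 0) (hfix : NoFix ρ) :
    ∑ κ ∈ Finset.range 80, f κ * (Module.finrank k (eig ρ (h lam) (ι lam ^ κ)) : ℤ) ≤ 0 := by
  rw [← PF_eq ι hF f]
  exact pressure_one (PF ι lam hF f) (f 0) (perfect81 hF) (fun ρ h1 => (PF_triv ι hF hlam f ρ h1).le)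
    (fun ρ W hW hI htr hfix => hE81 ι ρ hF hlam f hD hval hW hI htr hfix) _ ρ rfl hfix

end Gen

/-! ### the functional of the classes 2 and 4 -/

/-- the orbit of a weight modulo 40 under multiplication by 3 and -1 -/
def orb (j : ℕ) : ℕ :=
  if j = 0 then 0 else if [1, 3, 9, 13, 27, 31, 37, 39].contains j then 1
  else if [2, 6, 14, 18, 22, 26, 34, 38].contains j then 2
  else if [4, 12, 28, 36].contains j then 3
  else if [5, 15, 25, 35].contains j then 4
  else if [7, 11, 17, 19, 21, 23, 29, 33].contains j then 5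
  else if [8, 16, 24, 32].contains j then 6
  else if [10, 30].contains j then 7
  else 8

/-- a functional given by its values on the orbits -/
def orbF (L : List ℤ) (κ : ℕ) : ℤ := if κ % 2 = 1 then 0 else L.getD (orb (κ / 2)) 0

def L24 : List ℤ := [2, -1, 0, 1, -1, 0, 1, 0, -2]

theorem L24_check : ((List.range 81).all fun b => b == 0 || decide (val (orbF L24) b + (if exc b = true then 2 else 0) ≤ 0)) =
    true := by decide +kernel

end Cfsg.Agent.H525.E8L
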