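import Cfsg.Agent.H525.E8L.POne
import Cfsg.Agent.H525.E8L.Iface2

/-!
# Additive functions with elements of order 80 and 41 of `SL(2, 81)` (helper525, S5921)
-/

set_option autoImplicit false
set_option linter.unusedSectionVars false
set_option maxRecDepth 100000

namespace Cfsg.Agent.H525.E8L

open Matrix Cfsg.Agent.H943.SL2Rel Cfsg.Agent.H943.RepAdd Cfsg.Agent.H940.E8L
open Cfsg.Agent.H943.SL2Mod hiding Inv finrank_eig_iso
open Cfsg.Agent.H943.Cert (digs)

universe u v w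

/-- the sum of two additive functions -/
def addF {k : Type u} [Field k] {G : Type v} [Group G] (A B : AddFun.{u, v, w} k G) : AddFun.{u, v, w} k G where
  psi ρ := A.psi ρ + B.psi ρ
  add ρ W hW := by
    rw [A.add ρ W hW, B.add ρ W hW]
    ring
  iso ρ₁ ρ₂ φ h := by rw [A.iso ρ₁ ρ₂ φ h, B.iso ρ₁ ρ₂ φ h]

/-- the value of a functional on the weights of order 41 -/
def val41 (g : ℕ → ℤ) (b : ℕ) : ℤ := if b % 2 = 1 then 0 else ((digs 4 b).map fun m => g (wt41 b m)).sum

theorem list_count (g : ℕ → ℤ) (w : ℕ → ℕ) (n : ℕ) (L : List ℕ) (hw : ∀ m ∈ L, w m < n) :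
    ∑ κ ∈ Finset.range n, g κ * (((L.filter fun m => w m = κ).length : ℕ) : ℤ) = (L.map fun m => g (w m)).sum := by
  induction L with
  | nil => simp
  | cons a L ih =>
    rw [List.map_cons, List.sum_cons, ← ih fun m hm => hw m (List.mem_cons_of_mem _ hm)]
    have h1 : ∀ κ ∈ Finset.range n, g κ * ((((a :: L).filter fun m => w m = κ).length : ℕ) : ℤ) =
        (if κ = w a then g κ else 0) + g κ * (((L.filter fun m => w m = κ).length : ℕ) : ℤ) := by
      intro κ _
      by_cases h2 : w a = κ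
      · rw [List.filter_cons_of_pos (by simpa using h2), List.length_cons, if_pos h2.symm]
        push_cast
        ring
      · rw [List.filter_cons_of_neg (by simpa using h2), if_neg (fun h => h2 h.symm), zero_add]
    rw [Finset.sum_congr rfl h1, Finset.sum_add_distrib, Finset.sum_ite_eq' (Finset.range n) (w a) g,
      if_pos (Finset.mem_range.2 (hw a (by simp)))]

theorem wt41_lt (b m : ℕ) : wt41 b m < 41 := Nat.mod_lt _ (by norm_num)

section Gen

variable {F : Type} [Field F] [Fintype F] [DecidableEq F] [CharP F 3] {k : Type} [Field k] [DecidableEq k]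
  [IsAlgClosed k] [CharP k 3] (ι : F →+* k)

theorem h_neg_comm (g : SpecialLinearGroup (Fin 2) F) : g * h (-1) = h (-1) * g :=
  Subgroup.mem_center_iff.1 (Cfsg.Agent.H943.PSLHom.h_mem_center.2 (neg_one_sq (R := Fˣ))) g

theorem h_neg_sq : (h (-1) : SpecialLinearGroup (Fin 2) F) * h (-1) = 1 := by
  rw [← h_mul, neg_mul_neg, one_mul, h_one]

theorem cz_pow {c : SpecialLinearGroup (Fin 2) F} (hc : c ^ 41 = 1) : (c * h (-1)) ^ 82 = 1 := by
  have hcomm : Commute c (h (-1)) := h_neg_comm c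
  rw [hcomm.mul_pow, show 82 = 41 * 2 by norm_num, pow_mul, hc, one_pow, one_mul, mul_comm 41 2, pow_mul, pow_two,
    h_neg_sq, one_pow]

/-- the additive function of the weights of order 41 -/
noncomputable def QF {c : SpecialLinearGroup (Fin 2) F} {η : k} (hc : c ^ 41 = 1) (hη : IsPrimitiveRoot η 41)
    (g : ℕ → ℤ) : AddFun.{0, 0, 0} k (SpecialLinearGroup (Fin 2) F) :=
  eigFun (Finset.range 41) g (fun _ => c * h (-1)) (fun _ => 82) (fun κ => η ^ κ) 0
    (fun _ _ => cz_pow hc)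
    (fun _ _ => by
      have : Fact (Nat.Prime 3) := ⟨Nat.prime_three⟩
      rw [Ne, CharP.cast_eq_zero_iff k 3]
      norm_num)
    (fun κ _ => by rw [← pow_mul, mul_comm, pow_mul, show 82 = 41 * 2 by norm_num, pow_mul, hη.pow_eq_one, one_pow,
      one_pow])
    (fun κ _ => pow_ne_zero _ (hη.ne_zero (by norm_num)))

theorem QF_eq {c : SpecialLinearGroup (Fin 2) F} {η : k} (hc : c ^ 41 = 1) (hη : IsPrimitiveRoot η 41)
    (g : ℕ → ℤ) {V : Type} [AddCommGroup V] [Module k V]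
    (ρ : Representation k (SpecialLinearGroup (Fin 2) F) V) : (QF hc hη g).psi ρ =
      ∑ κ ∈ Finset.range 41, g κ * (Module.finrank k (eig ρ (c * h (-1)) (η ^ κ)) : ℤ) := by
  show 0 * (Module.finrank k V : ℤ) + _ = _
  rw [zero_mul, zero_add]

variable {V : Type} [AddCommGroup V] [Module k V] [FiniteDimensional k V]
  (ρ : Representation k (SpecialLinearGroup (Fin 2) F) V) {W : Submodule k V}

theorem eig_congr {k : Type} [Field k] {G : Type} [Group G] {V : Type} [AddCommGroup V] [Module k V]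
    (ρ : Representation k G V) {a b : G} (h : ρ a = ρ b) (μ : k) : eig ρ a μ = eig ρ b μ := by
  unfold eig
  rw [h]

theorem rb_neg (hF : Fintype.card F = 81) {b : ℕ} (hb : b ≤ Fintype.card F - 1) (x : Vb ι b) :
    haveI : Fact (Nat.Prime 3) := ⟨Nat.prime_three⟩
    rb ι 3 (odd_of hF) hb (h (-1)) x = (-1 : k) ^ b • x := by
  have : Fact (Nat.Prime 3) := ⟨Nat.prime_three⟩
  apply Subtype.ext
  show fRep k F (h (-1)) (x : F × F → k) = (-1 : k) ^ b • (x : F × F → k)
  have h5 : ∀ g ∈ Submodule.span k (mon ι b '' Bb k b), fRep k F (h (-1)) g = (-1 : k) ^ b • g := by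
    intro g hg
    induction hg using Submodule.span_induction with
    | mem g hg =>
      obtain ⟨m, hm, rfl⟩ := hg
      rw [h_mon, Units.val_neg, Units.val_one, map_neg, map_one, inv_neg, inv_one, ← pow_add,
        show m + (b - m) = b by have := hm.1; omega]
    | zero => rw [map_zero, smul_zero]
    | add a c _ _ ha hc => rw [map_add, ha, hc, smul_add]
    | smul a c _ hc => rw [map_smul, hc, smul_comm]
  exact h5 _ (Vb_le ι b x.2)

theorem rb_neg_odd (hF : Fintype.card F = 81) {b : ℕ} (hb : b ≤ Fintype.card F - 1) (hbo : Odd b) (x : Vb ι b) :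
    haveI : Fact (Nat.Prime 3) := ⟨Nat.prime_three⟩
    rb ι 3 (odd_of hF) hb (h (-1)) x = -x := by
  have : Fact (Nat.Prime 3) := ⟨Nat.prime_three⟩
  rw [rb_neg ι hF hb, hbo.neg_one_pow]
  exact neg_one_smul k x

theorem QF_irr (hF : Fintype.card F = 81) {c : SpecialLinearGroup (Fin 2) F} {η : k} (hN : Non41 ι hF c η)
    (g : ℕ → ℤ) (hW : Inv ρ W) {b : ℕ} (hb : b ≤ Fintype.card F - 1) (φ : Vb ι b ≃ₗ[k] W)
    (hφ : haveI : Fact (Nat.Prime 3) := ⟨Nat.prime_three⟩
      ∀ g x, φ (rb ι 3 (odd_of hF) hb g x) = subRep ρ W hW g (φ x)) :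
    (QF hN.pow hN.prim g).psi (subRep ρ W hW) = val41 g b := by
  have : Fact (Nat.Prime 3) := ⟨Nat.prime_three⟩
  rw [QF_eq, Finset.sum_congr rfl fun κ _ => by rw [← Cfsg.Agent.H943.SL2Mod.finrank_eig_iso _ _ φ hφ]]
  unfold val41
  rcases Nat.even_or_odd b with hbe | hbo
  · rw [if_neg (by rw [Nat.even_iff.1 hbe]; norm_num), ← list_count g (wt41 b) 41 _ fun m _ => wt41_lt b m]
    refine Finset.sum_congr rfl fun κ hκ => ?_
    have h1 : rb ι 3 (odd_of hF) hb (c * h (-1)) = rb ι 3 (odd_of hF) hb c := by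
      rw [map_mul]
      refine LinearMap.ext fun x => ?_
      rw [Module.End.mul_apply, rb_neg ι hF hb, hbe.neg_one_pow, one_smul]
    rw [eig_congr _ h1, hN.dims b hb hbe κ (Finset.mem_range.1 hκ)]
  · rw [if_pos (Nat.odd_iff.1 hbo)]
    refine Finset.sum_eq_zero fun κ _ => ?_
    have h2 : (2 : k) ≠ 0 := by
      have h3 : ((2 : ℕ) : k) ≠ 0 := by rw [Ne, CharP.cast_eq_zero_iff k 3]; norm_num
      exact_mod_cast h3
    have h1 : eig (rb ι 3 (odd_of hF) hb) (c * h (-1)) (η ^ κ) = ⊥ := by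
      rw [eq_bot_iff]
      intro x hx
      rw [mem_eig, map_mul, Module.End.mul_apply, rb_neg_odd ι hF hb hbo, map_neg, neg_eq_iff_eq_neg] at hx
      replace hx : rb ι 3 (odd_of hF) hb c x = (-η ^ κ) • x := hx.trans (neg_smul _ _).symm
      have h3 := pow_apply_eig (rb ι 3 (odd_of hF) hb) hx 41
      rw [← map_pow, hN.pow, map_one, Module.End.one_apply] at h3
      have h4 : (-η ^ κ) ^ 41 = (-1 : k) := by
        rw [neg_pow, ← pow_mul, mul_comm κ 41, pow_mul, hN.prim.pow_eq_one, one_pow, mul_one]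
        norm_num
      rw [h4] at h3
      replace h3 : x = -x := h3.trans (neg_one_smul k x)
      have h5 : (2 : k) • x = 0 := by
        rw [two_smul]
        nth_rewrite 1 [h3]
        exact neg_add_cancel x
      exact (Submodule.mem_bot k).2 ((smul_eq_zero.1 h5).resolve_left h2)
    rw [h1, finrank_bot, Nat.cast_zero, mul_zero]

/-- the combined additive function -/
noncomputable def RF (lam : Fˣ) (hF : Fintype.card F = 81) {c : SpecialLinearGroup (Fin 2) F} {η : k}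
    (hN : Non41 ι hF c η) (f g : ℕ → ℤ) : AddFun.{0, 0, 0} k (SpecialLinearGroup (Fin 2) F) :=
  addF (PF ι lam hF f) (QF hN.pow hN.prim g)

variable {lam : Fˣ} (hF : Fintype.card F = 81) (hlam : ∀ x, x ∈ Subgroup.zpowers lam)
  {c : SpecialLinearGroup (Fin 2) F} {η : k} (hN : Non41 ι hF c η)

theorem RF_eq (f g : ℕ → ℤ) {V : Type} [AddCommGroup V] [Module k V]
    (ρ : Representation k (SpecialLinearGroup (Fin 2) F) V) : (RF ι lam hF hN f g).psi ρ =
      ∑ κ ∈ Finset.range 80, f κ * (Module.finrank k (eig ρ (h lam) (ι lam ^ κ)) : ℤ) +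
      ∑ κ ∈ Finset.range 41, g κ * (Module.finrank k (eig ρ (c * h (-1)) (η ^ κ)) : ℤ) := by
  show (PF ι lam hF f).psi ρ + (QF hN.pow hN.prim g).psi ρ = _
  rw [PF_eq, QF_eq]

include hlam in
theorem RF_irr (f g : ℕ → ℤ) (hW : Inv ρ W) {b : ℕ} (hb : b ≤ Fintype.card F - 1) (φ : Vb ι b ≃ₗ[k] W)
    (hφ : haveI : Fact (Nat.Prime 3) := ⟨Nat.prime_three⟩
      ∀ g x, φ (rb ι 3 (odd_of hF) hb g x) = subRep ρ W hW g (φ x)) :
    (RF ι lam hF hN f g).psi (subRep ρ W hW) = val f b + val41 g b := by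
  show (PF ι lam hF f).psi _ + (QF hN.pow hN.prim g).psi _ = _
  rw [PF_irr ι ρ hF hlam f hW hb φ hφ, QF_irr ι ρ hF hN g hW hb φ hφ]

include hlam in
theorem RF_triv (f g : ℕ → ℤ) {V : Type} [AddCommGroup V] [Module k V] [FiniteDimensional k V]
    (ρ : Representation k (SpecialLinearGroup (Fin 2) F) V) (h1 : ∀ g x, ρ g x = x) :
    (RF ι lam hF hN f g).psi ρ = (f 0 + g 0) * Module.finrank k V := by
  show (PF ι lam hF f).psi _ + (QF hN.pow hN.prim g).psi _ = _
  rw [PF_triv ι hF hlam f ρ h1, QF_eq, Finset.sum_eq_single 0]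
  · rw [eig_triv ρ h1, pow_zero, if_pos rfl]
    ring
  · intro κ hκ hκ0
    rw [eig_triv ρ h1, if_neg, Nat.cast_zero, mul_zero]
    intro h2
    have h3 := hN.prim.dvd_of_pow_eq_one κ h2
    have h4 := Nat.le_of_dvd (Nat.pos_of_ne_zero hκ0) h3
    have := Finset.mem_range.1 hκ
    omega
  · intro h2
    exact absurd (Finset.mem_range.2 (by norm_num)) h2

theorem RF_zero (f g : ℕ → ℤ) {V : Type} [AddCommGroup V] [Module k V] [Subsingleton V]
    (ρ : Representation k (SpecialLinearGroup (Fin 2) F) V) : (RF ι lam hF hN f g).psi ρ = 0 := by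
  rw [RF_eq, Finset.sum_eq_zero, Finset.sum_eq_zero, add_zero]
  · intro κ _
    rw [Module.finrank_zero_of_subsingleton, Nat.cast_zero, mul_zero]
  · intro κ _
    rw [Module.finrank_zero_of_subsingleton, Nat.cast_zero, mul_zero]

include hlam in
theorem RF_nonneg (f g : ℕ → ℤ) (hfg : ∀ b ≤ 80, 0 ≤ val f b + val41 g b) (n : ℕ) :
    ∀ {V : Type} [AddCommGroup V] [Module k V] [FiniteDimensional k V]
      (ρ : Representation k (SpecialLinearGroup (Fin 2) F) V), Module.finrank k V = n →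
      0 ≤ (RF ι lam hF hN f g).psi ρ := by
  induction n using Nat.strong_induction_on with
  | _ n ih =>
  intro V _ _ _ ρ hn
  rcases subsingleton_or_nontrivial V with hV | hV
  · rw [RF_zero]
  · obtain ⟨W, hW, hW0, hmin⟩ := exists_irr_sub ρ
    obtain ⟨b, hb, φ, hφ⟩ := irr_Vb ι ρ hF hW ⟨hW0, hmin⟩
    have h1 := RF_irr ι ρ hF hlam hN f g hW hb φ hφ
    have h4 := ih _ (hn ▸ quot_lt hW0) (quotRep ρ W hW) rfl
    have h5 := (RF ι lam hF hN f g).add ρ W hW
    have h6 := hfg b (by omega)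
    rw [h5, h1]
    omega

include hlam in
/-- a trivial composition factor -/
theorem exists_triv (f g : ℕ → ℤ) (hfg : ∀ b ≤ 80, b ≠ 0 → val f b + val41 g b = 0) (n : ℕ) :
    ∀ {V : Type} [AddCommGroup V] [Module k V] [FiniteDimensional k V]
      (ρ : Representation k (SpecialLinearGroup (Fin 2) F) V), Module.finrank k V = n →
      (RF ι lam hF hN f g).psi ρ ≠ 0 → ∃ N : Submodule k V, Inv ρ N ∧ ∃ x : V, x ∉ N ∧ ∀ g, ρ g x - x ∈ N := by
  have : Fact (Nat.Prime 3) := ⟨Nat.prime_three⟩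
  induction n using Nat.strong_induction_on with
  | _ n ih =>
  intro V _ _ _ ρ hn hne
  rcases subsingleton_or_nontrivial V with hV | hV
  · exact absurd (RF_zero ι hF hN f g ρ) hne
  · obtain ⟨W, hW, hW0, hmin⟩ := exists_irr_sub ρ
    obtain ⟨b, hb, φ, hφ⟩ := irr_Vb ι ρ hF hW ⟨hW0, hmin⟩
    by_cases hb0 : b = 0
    · subst hb0
      obtain ⟨x, hx, hx0⟩ := Submodule.exists_mem_ne_zero_of_ne_bot hW0
      refine ⟨⊥, fun g y hy => ?_, x, fun h => hx0 ((Submodule.mem_bot k).1 h), fun g => ?_⟩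
      · rw [Submodule.mem_bot] at hy ⊢
        rw [hy, map_zero]
      · rw [V0_triv ι ρ hF hW hb φ hφ hx g, sub_self]
        exact Submodule.zero_mem _
    · have h1 := RF_irr ι ρ hF hlam hN f g hW hb φ hφ
      have h5 := (RF ι lam hF hN f g).add ρ W hW
      have h6 := hfg b (by omega) hb0
      obtain ⟨N, hNi, x, hx, hfx⟩ := ih _ (hn ▸ quot_lt hW0) (quotRep ρ W hW) rfl (by
        intro h0
        apply hne
        rw [h5, h1, h6, h0, add_zero])
      obtain ⟨y, rfl⟩ := W.mkQ_surjective x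
      refine ⟨N.comap W.mkQ, fun g z hz => ?_, y, hx, fun g => ?_⟩
      · have h7 := hNi g _ hz
        rw [quotRep_mk] at h7
        exact h7
      · have h7 := hfx g
        rw [quotRep_mk, ← map_sub] at h7
        exact h7

include hlam in
theorem RF_hE (f g : ℕ → ℤ) {D : ℤ} (hD : 0 ≤ D)
    (hval : ∀ b ≤ 80, b ≠ 0 → val f b + val41 g b + (if exc b = true then D else 0) ≤ 0)
    (hW : Inv ρ W) (hI : IrrIn ρ W) (htr : TrivMod ρ W) (hfix : NoFix ρ) :
    (RF ι lam hF hN f g).psi (subRep ρ W hW) + D * Module.finrank k (V ⧸ W) ≤ 0 := by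
  obtain ⟨b, hb, φ, hφ⟩ := irr_Vb ι ρ hF hW hI
  have h0 := b_ne_zero ι ρ hF hW hI hfix hb φ hφ
  have h1 := quot_le ι ρ hF hW htr hfix hb φ hφ
  rw [RF_irr ι ρ hF hlam hN f g hW hb φ hφ]
  have hq : Fintype.card F - 1 = 80 := by rw [hF]
  have h2 := hval b (by omega) h0
  split_ifs at h1 h2 with h3
  · have h4 : (Module.finrank k (V ⧸ W) : ℤ) ≤ 1 := by exact_mod_cast h1
    nlinarith
  · have h4 : Module.finrank k (V ⧸ W) = 0 := Nat.le_zero.1 h1
    rw [h4, Nat.cast_zero, mul_zero]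
    exact h2

include hlam in
theorem RF_hE' (f g : ℕ → ℤ) {D : ℤ}
    (hval : ∀ b ≤ 80, exc b = true → val f b + val41 g b ≤ -D)
    (hW : Inv ρ W) (hI : IrrIn ρ W) (htr : TrivMod ρ W) (hfix : NoFix ρ) (hWt : W ≠ ⊤) :
    (RF ι lam hF hN f g).psi (subRep ρ W hW) ≤ -D := by
  obtain ⟨b, hb, φ, hφ⟩ := irr_Vb ι ρ hF hW hI
  have h1 := quot_le ι ρ hF hW htr hfix hb φ hφ
  rw [RF_irr ι ρ hF hlam hN f g hW hb φ hφ]
  have hq : Fintype.card F - 1 = 80 := by rw [hF]
  split_ifs at h1 with h3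
  · exact hval b (by omega) h3
  · exfalso
    apply hWt
    have h4 := Submodule.finrank_quotient_add_finrank W
    exact Submodule.eq_top_of_finrank_eq (by omega)

/-- symmetric functionals are self-dual -/
theorem RF_dual (f g : ℕ → ℤ) (hf : ∀ κ < 80, f ((80 - κ) % 80) = f κ) (hg : ∀ κ < 41, g ((41 - κ) % 41) = g κ)
    {B : V →ₗ[k] V →ₗ[k] k} (hB : ∀ g x y, B (ρ g x) (ρ g y) = B x y) (hnd : ∀ y, (∀ x, B x y = 0) → y = 0)
    (N : Submodule k V) (hNi : Inv ρ N) :
    (RF ι lam hF hN f g).psi (quotRep ρ (perpL B N) (inv_perpL hB hNi)) = (RF ι lam hF hN f g).psi (subRep ρ N hNi) := by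
  have hsum : ∀ (n : ℕ) (_ : 0 < n) (f : ℕ → ℤ) (_ : ∀ κ < n, f ((n - κ) % n) = f κ) (μ : k) (_ : μ ^ n = 1)
      (_ : μ ≠ 0) (a : k → ℤ), ∑ κ ∈ Finset.range n, f κ * a ((μ ^ κ)⁻¹) = ∑ κ ∈ Finset.range n, f κ * a (μ ^ κ) := by
    intro n hn f hf μ hμ hμ0 a
    refine Finset.sum_bij' (fun κ _ => (n - κ) % n) (fun κ _ => (n - κ) % n) ?_ ?_ ?_ ?_ ?_
    · intro κ _
      exact Finset.mem_range.2 (Nat.mod_lt _ hn)
    · intro κ _
      exact Finset.mem_range.2 (Nat.mod_lt _ hn)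
    · intro κ hκ
      have hκ' := Finset.mem_range.1 hκ
      rcases Nat.eq_zero_or_pos κ with h0 | h0
      · subst h0
        simp
      · show (n - (n - κ) % n) % n = κ
        rw [Nat.mod_eq_of_lt (show n - κ < n by omega), Nat.sub_sub_self hκ'.le, Nat.mod_eq_of_lt hκ']
    · intro κ hκ
      have hκ' := Finset.mem_range.1 hκ
      rcases Nat.eq_zero_or_pos κ with h0 | h0
      · subst h0
        simp
      · show (n - (n - κ) % n) % n = κ
        rw [Nat.mod_eq_of_lt (show n - κ < n by omega), Nat.sub_sub_self hκ'.le, Nat.mod_eq_of_lt hκ']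
    · intro κ hκ
      have hκ' := Finset.mem_range.1 hκ
      rw [hf κ hκ']
      congr 2
      rw [inv_eq_iff_eq_inv, eq_comm, inv_eq_iff_eq_inv, eq_comm]
      rcases Nat.eq_zero_or_pos κ with h0 | h0
      · subst h0
        simp
      · rw [Nat.mod_eq_of_lt (show n - κ < n by omega)]
        symm
        apply eq_inv_of_mul_eq_one_left
        rw [← pow_add, show n - κ + κ = n by omega, hμ]
  rw [RF_eq, RF_eq]
  have hlam80 : ∀ κ, (ι lam ^ κ) ^ 80 = 1 := fun κ => by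
    rw [← map_pow, ← map_pow, ← Units.val_pow_eq_pow_val, ← Units.val_pow_eq_pow_val, ← pow_mul, mul_comm,
      pow_mul, gen_pow lam hF, one_pow, Units.val_one, map_one]
  have h1 : ∀ κ, Module.finrank k (eig (quotRep ρ (perpL B N) (inv_perpL hB hNi)) (h lam) (ι lam ^ κ)) =
      Module.finrank k (eig (subRep ρ N hNi) (h lam) (ι lam ^ κ)⁻¹) := fun κ =>
    finrank_eig_perp hB hnd hNi (n := 80) (by rw [← h_pow, gen_pow lam hF, h_one]) eighty_ne (hlam80 κ)
  have h2 : ∀ κ, Module.finrank k (eig (quotRep ρ (perpL B N) (inv_perpL hB hNi)) (c * h (-1)) (η ^ κ)) =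
      Module.finrank k (eig (subRep ρ N hNi) (c * h (-1)) (η ^ κ)⁻¹) := fun κ =>
    finrank_eig_perp hB hnd hNi (n := 82) (cz_pow hN.pow) (by
      have : Fact (Nat.Prime 3) := ⟨Nat.prime_three⟩
      rw [Ne, CharP.cast_eq_zero_iff k 3]
      norm_num) (by rw [← pow_mul, mul_comm, pow_mul, show 82 = 41 * 2 by norm_num, pow_mul, hN.prim.pow_eq_one, one_pow,
        one_pow])
  rw [Finset.sum_congr rfl fun κ _ => by rw [h1 κ],
    hsum 80 (by norm_num) f hf (ι lam) (by have := hlam80 1; rwa [pow_one] at this) ((map_ne_zero ι).2 lam.ne_zero)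
      (fun μ => (Module.finrank k (eig (subRep ρ N hNi) (h lam) μ) : ℤ))]
  congr 1
  rw [Finset.sum_congr rfl fun κ _ => by rw [h2 κ],
    hsum 41 (by norm_num) g hg η hN.prim.pow_eq_one (hN.prim.ne_zero (by norm_num))
      (fun μ => (Module.finrank k (eig (subRep ρ N hNi) (c * h (-1)) μ) : ℤ))]

include hlam in
/-- **pressure (2)** -/
theorem press2 (f g : ℕ → ℤ) {D : ℤ} (hD : 0 ≤ D) (hD0 : f 0 + g 0 = D)
    (hval : ∀ b ≤ 80, b ≠ 0 → val f b + val41 g b + (if exc b = true then D else 0) ≤ 0)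
    (hf : ∀ κ < 80, f ((80 - κ) % 80) = f κ) (hg : ∀ κ < 41, g ((41 - κ) % 41) = g κ)
    {B : V →ₗ[k] V →ₗ[k] k} (hB : ∀ g x y, B (ρ g x) (ρ g y) = B x y) (hnd : ∀ y, (∀ x, B x y = 0) → y = 0)
    (htriv : ∃ N : Submodule k V, Inv ρ N ∧ ∃ x : V, x ∉ N ∧ ∀ g, ρ g x - x ∈ N) (hfix : NoFix ρ) :
    (RF ι lam hF hN f g).psi ρ ≤ -D :=
  pressure_two (RF ι lam hF hN f g) D (perfect81 hF)
    (fun ρ h1 => by rw [RF_triv ι hF hlam hN f g ρ h1, hD0])
    (fun ρ W hW hI htr hfix => RF_hE ι ρ hF hlam hN f g hD hval hW hI htr hfix) D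
    (fun ρ W hW hI htr hfix hWt => RF_hE' ι ρ hF hlam hN f g (fun b hb he => by
      have h1 := hval b hb (by rintro rfl; simp [exc] at he)
      rw [if_pos he] at h1
      omega) hW hI htr hfix hWt) ρ hfix
    (fun N hNi => ⟨perpL B N, inv_perpL hB hNi, RF_dual ι ρ hF hN f g hf hg hB hnd N hNi⟩) htriv

end Gen

end Cfsg.Agent.H525.E8L
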